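import Cfsg.Agent.Mrg.Omega.FOne.AT.Sec
import Cfsg.Agent.Mrg.Omega.FOne.Rep
import Cfsg.Agent.Mrg.Omega.VP

section


/-!
# (F1'), the minimal parabolic case: sums of even-subset modules of `S_n`

A transposition lift is a transvection of `W / y`, so an atom has order 2.
-/

set_option autoImplicit false
set_option linter.unusedSectionVars false

namespace Cfsg.Agent.Omega.FOne.Act

open Subgroup
open Cfsg.Agent.Omega.FOne.Tvw (Base addself z2 eq_of_add_eq_zero' ap_inv inv_ap)
open Cfsg.Agent.Omega.FOne.AT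
open Cfsg.Agent.Omega.FOne.NOv (cm MEx MAtom)

variable {W : Type*} [AddCommGroup W] [Module (ZMod 2) W] {k n : ℕ}

/-- the conclusion of the FF theorem in the symmetric case, for `W / y` -/
structure SymW (H : Subgroup (W ≃ₗ[ZMod 2] W)) (y : W) (e : W →+ (Fin k → Fin n → ZMod 2)) : Prop
    extends Ek H y e where
  even : ∀ w i, ∑ x, e w i x = 0
  surj : ∀ z : Fin k → Fin n → ZMod 2, (∀ i, ∑ x, z i x = 0) → ∃ w, e w = z
  lift : ∀ τ : Fin k → Equiv.Perm (Fin n), ∃ g ∈ H, (∀ w i x, e (g w) i (τ i x) = e w i x) ∧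
    ∀ w, e w = 0 → g w + w ∈ Yy y

/-- the pair `{u, s}` of the block `j` -/
def pr (j : Fin k) (u s : Fin n) : Fin k → Fin n → ZMod 2 := Pi.single j (Pi.single u 1 + Pi.single s 1)

theorem pr_sum (j : Fin k) (u s : Fin n) (i : Fin k) : ∑ x, pr j u s i x = 0 := by
  by_cases h : i = j
  · subst h
    have h1 : ∑ x, pr i u s i x = ∑ x, ((Pi.single u 1 : Fin n → ZMod 2) x + (Pi.single s 1 : Fin n → ZMod 2) x) := by
      refine Finset.sum_congr rfl fun x _ => ?_
      rw [pr, Pi.single_eq_same]; rfl
    rw [h1, Finset.sum_add_distrib]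
    simp only [Finset.sum_pi_single', Finset.mem_univ, if_true]
    rfl
  · have h1 : ∀ x, pr j u s i x = 0 := fun x => by
      rw [pr, Pi.single_eq_of_ne h]; rfl
    simp [h1]

namespace SymW

variable {H : Subgroup (W ≃ₗ[ZMod 2] W)} {y : W} {e : W →+ (Fin k → Fin n → ZMod 2)}
variable (h : SymW H y e)

/-- the lift -/
noncomputable def L : (Fin k → Equiv.Perm (Fin n)) →* (W ≃ₗ[ZMod 2] W) :=
  MonoidHom.mk' (fun A => (h.lift A).choose) fun A B => by
    obtain ⟨h1, h2, h3⟩ := (h.lift (A * B)).choose_spec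
    obtain ⟨a1, a2, a3⟩ := (h.lift A).choose_spec
    obtain ⟨b1, b2, b3⟩ := (h.lift B).choose_spec
    refine h.toEk.uniq2 h1 (H.mul_mem a1 b1) (fun w => ?_) h3 fun w hw => ?_
    · funext i x
      change _ = e ((h.lift A).choose ((h.lift B).choose w)) i x
      obtain ⟨z, rfl⟩ := (A i).surjective x
      obtain ⟨x, rfl⟩ := (B i).surjective z
      rw [a2, b2]
      exact h2 w i x
    · change (h.lift A).choose ((h.lift B).choose w) + w ∈ Yy y
      have h4 := b3 w hw
      have h5 := a3 ((h.lift B).choose w) (h.kinv _ b1 w hw)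
      have h6 : (h.lift A).choose ((h.lift B).choose w) + w =
          (h.lift A).choose ((h.lift B).choose w) + (h.lift B).choose w + ((h.lift B).choose w + w) := by
        linear_combination (norm := module) -addself ((h.lift B).choose w)
      rw [h6]
      exact (Yy y).add_mem h5 h4

theorem L_mem (A : Fin k → Equiv.Perm (Fin n)) : h.L A ∈ H := (h.lift A).choose_spec.1

theorem L_e (A : Fin k → Equiv.Perm (Fin n)) (w : W) (i : Fin k) (x : Fin n) :
    e (h.L A w) i (A i x) = e w i x := (h.lift A).choose_spec.2.1 w i x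

theorem L_e' (A : Fin k → Equiv.Perm (Fin n)) (w : W) (i : Fin k) (x : Fin n) :
    e (h.L A w) i x = e w i ((A i)⁻¹ x) := by
  have := h.L_e A w i ((A i)⁻¹ x)
  rwa [show (A i) ((A i)⁻¹ x) = x from (A i).apply_symm_apply x] at this

theorem L_Yy (A : Fin k → Equiv.Perm (Fin n)) {w : W} (hw : e w = 0) : h.L A w + w ∈ Yy y :=
  (h.lift A).choose_spec.2.2 w hw

theorem eq_L {g : W ≃ₗ[ZMod 2] W} (hg : g ∈ H) {A : Fin k → Equiv.Perm (Fin n)}
    (h1 : ∀ w i x, e (g w) i (A i x) = e w i x) (h2 : ∀ w, e w = 0 → g w + w ∈ Yy y) : g = h.L A :=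
  h.toEk.uniq2 hg (h.L_mem A) (fun w => by
    funext i x
    obtain ⟨z, rfl⟩ := (A i).surjective x
    rw [h1, L_e]) h2 fun w hw => h.L_Yy A hw

/-- the transposition `(p q)` of the block `i` -/
noncomputable def tr (i : Fin k) (p q : Fin n) : W ≃ₗ[ZMod 2] W := h.L (Pi.mulSingle i (Equiv.swap p q))

theorem tr_mem (i : Fin k) (p q : Fin n) : h.tr i p q ∈ H := h.L_mem _

theorem tr_e (i : Fin k) (p q : Fin n) (w : W) (x : Fin n) : e (h.tr i p q w) i x = e w i (Equiv.swap p q x) := by
  rw [tr, h.L_e', Pi.mulSingle_eq_same, Equiv.swap_inv]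

theorem tr_e_ne {i j : Fin k} (hj : j ≠ i) (p q : Fin n) (w : W) (x : Fin n) : e (h.tr i p q w) j x = e w j x := by
  rw [tr, h.L_e', Pi.mulSingle_eq_of_ne hj]; rfl

theorem tr_Yy (i : Fin k) (p q : Fin n) {w : W} (hw : e w = 0) : h.tr i p q w + w ∈ Yy y := h.L_Yy _ hw

/-- the fixed space of the transposition, modulo `y` -/
noncomputable def Vf (i : Fin k) (p q : Fin n) : AddSubgroup W where
  carrier := {w | h.tr i p q w + w ∈ Yy y}
  zero_mem' := by
    change h.tr i p q 0 + 0 ∈ Yy y
    rw [map_zero, add_zero]; exact (Yy y).zero_mem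
  add_mem' := by
    intro a b ha hb
    change h.tr i p q (a + b) + (a + b) ∈ Yy y
    have h1 : h.tr i p q (a + b) + (a + b) = (h.tr i p q a + a) + (h.tr i p q b + b) := by
      rw [map_add]; abel
    rw [h1]; exact (Yy y).add_mem ha hb
  neg_mem' := by
    intro a ha
    change h.tr i p q (-a) + -a ∈ Yy y
    have h1 : h.tr i p q (-a) + -a = -(h.tr i p q a + a) := by
      rw [map_neg]; abel
    rw [h1]; exact (Yy y).neg_mem ha

theorem mem_Vf {i : Fin k} {p q : Fin n} {w : W} : w ∈ h.Vf i p q ↔ h.tr i p q w + w ∈ Yy y := Iff.rfl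

theorem ker_Vf {i : Fin k} {p q : Fin n} {w : W} (hw : e w = 0) : w ∈ h.Vf i p q := h.tr_Yy i p q hw

/-- the membership depends on `e w` only -/
theorem Vf_of {i : Fin k} {p q : Fin n} {w w' : W} (hw : e w = e w') (h1 : w ∈ h.Vf i p q) : w' ∈ h.Vf i p q := by
  have h2 : e (w + w') = 0 := by rw [map_add, hw, ← map_add, addself, map_zero]
  have h3 := (h.Vf i p q).add_mem h1 (h.ker_Vf (i := i) (p := p) (q := q) h2)
  have h4 : w + (w + w') = w' := by linear_combination (norm := module) addself w
  rwa [h4] at h3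

/-- (c1) -/
theorem comm_Vf {i : Fin k} {p q : Fin n} {A : Fin k → Equiv.Perm (Fin n)}
    (hA : Pi.mulSingle i (Equiv.swap p q) * A = A * Pi.mulSingle i (Equiv.swap p q)) {v : W}
    (hv : e (h.tr i p q v) = e v) : v + h.L A v ∈ h.Vf i p q := by
  rw [mem_Vf]
  have hd : e (h.tr i p q v + v) = 0 := by rw [map_add, hv, ← map_add, addself, map_zero]
  have h1 : h.tr i p q (h.L A v) = h.L A (h.tr i p q v) := by
    change (h.L _ * h.L A) v = (h.L A * h.L _) v
    rw [← map_mul, hA, map_mul]
  have h2 := h.L_Yy A hd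
  rw [map_add] at h2
  rw [map_add, h1]
  have h3 : h.tr i p q v + h.L A (h.tr i p q v) + (v + h.L A v) =
      h.L A (h.tr i p q v) + h.L A v + (h.tr i p q v + v) := by abel
  rw [h3]; exact h2

/-- (c3) the pair `{p, q}` -/
theorem pq_Vf {i : Fin k} {p q r : Fin n} (hpq : p ≠ q) (hrp : r ≠ p) (hrq : r ≠ q) {v : W}
    (hv : e v = pr i p q) : v ∈ h.Vf i p q := by
  rw [mem_Vf]
  have hb : e (h.tr i p q v) = e v := by
    funext j x
    by_cases hj : j = i
    · subst hj
      rw [h.tr_e, hv, pr, Pi.single_eq_same, Pi.add_apply, Pi.add_apply]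
      by_cases hx : x = p
      · subst hx
        rw [Equiv.swap_apply_left, Pi.single_eq_same, Pi.single_eq_same, Pi.single_eq_of_ne hpq,
          Pi.single_eq_of_ne hpq.symm, add_comm]
      · by_cases hx2 : x = q
        · subst hx2
          rw [Equiv.swap_apply_right, Pi.single_eq_same, Pi.single_eq_same, Pi.single_eq_of_ne hpq,
            Pi.single_eq_of_ne hpq.symm, add_comm]
        · rw [Equiv.swap_apply_of_ne_of_ne hx hx2]
    · rw [h.tr_e_ne hj]
  have hd : e (h.tr i p q v + v) = 0 := by rw [map_add, hb, ← map_add, addself, map_zero]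
  obtain ⟨d, hdd⟩ : ∃ d, d = h.tr i p q v + v := ⟨_, rfl⟩
  rw [← hdd] at hd ⊢
  have ebv : h.tr i p q v = v + d := by rw [hdd]; linear_combination (norm := module) -addself v
  have r1 : ∀ w, h.tr i p q (h.tr i q r w) = h.tr i p r (h.tr i p q w) := by
    intro w
    change (h.L _ * h.L _) w = (h.L _ * h.L _) w
    rw [← map_mul, ← map_mul, ← Pi.mulSingle_mul, ← Pi.mulSingle_mul]
    have : Equiv.swap p q * Equiv.swap q r = Equiv.swap p r * Equiv.swap p q := by
      have h1 := Equiv.swap_mul_swap_mul_swap (x := q) (y := r) (z := p) hrq.symm hpq.symm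
      rw [Equiv.swap_comm p q]
      have h2 : Equiv.swap q p * Equiv.swap q r * Equiv.swap q p = Equiv.swap p r := by
        rw [Equiv.swap_comm q r]
        have := Equiv.mul_swap_eq_swap_mul (Equiv.swap q p) r q
        rw [this, Equiv.swap_apply_left, Equiv.swap_apply_of_ne_of_ne hrq hrp, mul_assoc, Equiv.swap_mul_self, mul_one,
          Equiv.swap_comm]
      rw [← h2, mul_assoc, Equiv.swap_mul_self, mul_one]
    rw [this]
  have r2 : ∀ w, h.tr i p q (h.tr i p r w) = h.tr i q r (h.tr i p q w) := by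
    intro w
    change (h.L _ * h.L _) w = (h.L _ * h.L _) w
    rw [← map_mul, ← map_mul, ← Pi.mulSingle_mul, ← Pi.mulSingle_mul]
    have : Equiv.swap p q * Equiv.swap p r = Equiv.swap q r * Equiv.swap p q := by
      rw [Equiv.mul_swap_eq_swap_mul (Equiv.swap p q) p r, Equiv.swap_apply_left,
        Equiv.swap_apply_of_ne_of_ne hrp hrq]
    rw [this]
  -- the sum of the three pairs
  have hs : e (v + h.tr i q r v + h.tr i p r v) = 0 := by
    funext j x
    rw [map_add, map_add, Pi.add_apply, Pi.add_apply, Pi.add_apply, Pi.add_apply]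
    by_cases hj : j = i
    · subst hj
      rw [h.tr_e, h.tr_e, hv, pr, Pi.single_eq_same]
      simp only [Pi.add_apply]
      have key : ∀ a b : Fin n, (Pi.single a 1 : Fin n → ZMod 2) b = if b = a then 1 else 0 := fun a b => by
        rw [Pi.single_apply]
      simp only [key, Pi.zero_apply]
      by_cases hx : x = p
      · subst hx
        rw [Equiv.swap_apply_left, Equiv.swap_apply_of_ne_of_ne hpq hrp.symm]
        simp [hpq, hrp, hrq]
        decide
      · by_cases hx2 : x = q
        · subst hx2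
          rw [Equiv.swap_apply_left, Equiv.swap_apply_of_ne_of_ne hpq.symm hrq.symm]
          simp [hpq.symm, hrp, hrq]
          decide
        · by_cases hx3 : x = r
          · subst hx3
            rw [Equiv.swap_apply_right, Equiv.swap_apply_right]
            simp [hpq, hpq.symm, hrp, hrq]
            decide
          · rw [Equiv.swap_apply_of_ne_of_ne hx2 hx3, Equiv.swap_apply_of_ne_of_ne hx hx3]
            simp [hx, hx2]
    · rw [h.tr_e_ne hj, h.tr_e_ne hj, hv, pr, Pi.single_eq_of_ne hj]
      rfl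
  have h1 := h.tr_Yy i p q hs
  rw [map_add, map_add, r1, r2, ebv, map_add, map_add] at h1
  have h2 := h.tr_Yy i q r hd
  have h3 := h.tr_Yy i p r hd
  have h4 := (Yy y).add_mem ((Yy y).add_mem h1 h2) h3
  have h5 : v + d + (h.tr i p r v + h.tr i p r d) + (h.tr i q r v + h.tr i q r d) + (v + h.tr i q r v + h.tr i p r v) +
      (h.tr i q r d + d) + (h.tr i p r d + d) = d := by
    linear_combination (norm := module) addself v + addself (h.tr i p r v) + addself (h.tr i q r v) +
      addself (h.tr i p r d) + addself (h.tr i q r d) + addself d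
  rwa [h5] at h4

/-- (c2) the pairs away from `{p, q}` -/
theorem pair_Vf (hn : 5 ≤ n) {i j : Fin k} {p q u s : Fin n} (hus : u ≠ s)
    (hj : j = i → (u ≠ p ∧ u ≠ q) ∧ (s ≠ p ∧ s ≠ q)) {w : W} (hw : e w = pr j u s) : w ∈ h.Vf i p q := by
  classical
  -- a third letter
  obtain ⟨r, hr⟩ : ∃ r : Fin n, r ∉ ({u, s, p, q} : Finset (Fin n)) := by
    by_contra hcon
    push Not at hcon
    have h1 : Fintype.card (Fin n) ≤ ({u, s, p, q} : Finset (Fin n)).card := by
      rw [← Finset.card_univ]
      exact Finset.card_le_card fun x _ => hcon x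
    rw [Fintype.card_fin] at h1
    have h2 : ({u, s, p, q} : Finset (Fin n)).card ≤ 4 := Finset.card_le_four
    omega
  simp only [Finset.mem_insert, Finset.mem_singleton, not_or] at hr
  obtain ⟨hru, hrs, hrp, hrq⟩ := hr
  obtain ⟨v, hv⟩ := h.surj (pr j r u) (pr_sum j r u)
  have key : ∀ a b : Fin n, (Pi.single a 1 : Fin n → ZMod 2) b = if b = a then 1 else 0 := fun a b => by
    rw [Pi.single_apply]
  -- `v` is fixed by `(p q)` modulo the kernel
  have hb : e (h.tr i p q v) = e v := by
    funext j' x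
    by_cases hj' : j' = i
    · subst hj'
      rw [h.tr_e, hv]
      by_cases hjj : j' = j
      · subst hjj
        obtain ⟨⟨a1, a2⟩, -⟩ := hj rfl
        rw [pr, Pi.single_eq_same]
        simp only [Pi.add_apply, key]
        by_cases hx : x = p
        · subst hx
          rw [Equiv.swap_apply_left, if_neg (Ne.symm hrq), if_neg a2.symm, if_neg (Ne.symm hrp), if_neg a1.symm]
        · by_cases hx2 : x = q
          · subst hx2
            rw [Equiv.swap_apply_right, if_neg (Ne.symm hrq), if_neg a2.symm, if_neg (Ne.symm hrp), if_neg a1.symm]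
          · rw [Equiv.swap_apply_of_ne_of_ne hx hx2]
      · rw [pr, Pi.single_eq_of_ne hjj]; rfl
    · rw [h.tr_e_ne hj']
  -- `(u s)` of the block `j` commutes with `(p q)` of the block `i`
  have hc : (Pi.mulSingle i (Equiv.swap p q) : Fin k → Equiv.Perm (Fin n)) * Pi.mulSingle j (Equiv.swap u s) =
      Pi.mulSingle j (Equiv.swap u s) * Pi.mulSingle i (Equiv.swap p q) := by
    by_cases hji : j = i
    · subst hji
      obtain ⟨⟨a1, a2⟩, a3, a4⟩ := hj rfl
      rw [← Pi.mulSingle_mul, ← Pi.mulSingle_mul, Equiv.mul_swap_eq_swap_mul (Equiv.swap p q) u s,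
        Equiv.swap_apply_of_ne_of_ne a1 a2, Equiv.swap_apply_of_ne_of_ne a3 a4]
    · funext j'
      rw [Pi.mul_apply, Pi.mul_apply]
      by_cases h1 : j' = i
      · subst h1
        rw [Pi.mulSingle_eq_of_ne (Ne.symm hji), mul_one, one_mul]
      · rw [Pi.mulSingle_eq_of_ne h1, mul_one, one_mul]
  have h1 := h.comm_Vf hc hb
  refine h.Vf_of ?_ h1
  rw [hw]
  funext j' x
  rw [map_add, Pi.add_apply, Pi.add_apply]
  by_cases hjj : j' = j
  · subst hjj
    have e1 : e (h.L (Pi.mulSingle j' (Equiv.swap u s)) v) j' x = e v j' (Equiv.swap u s x) := h.tr_e j' u s v x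
    rw [e1, hv, pr, pr, Pi.single_eq_same, Pi.single_eq_same]
    simp only [Pi.add_apply, key]
    by_cases hx : x = u
    · subst hx
      rw [Equiv.swap_apply_left, if_neg (Ne.symm hru), if_pos rfl, if_neg (Ne.symm hrs), if_neg (Ne.symm hus),
        if_neg hus]
      decide
    · by_cases hx2 : x = s
      · subst hx2
        rw [Equiv.swap_apply_right, if_neg (Ne.symm hrs), if_neg (Ne.symm hus), if_neg (Ne.symm hru), if_pos rfl,
          if_pos rfl]
        decide
      · rw [Equiv.swap_apply_of_ne_of_ne hx hx2, if_neg hx, if_neg hx2]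
        by_cases hx3 : x = r
        · rw [if_pos hx3]; decide
        · rw [if_neg hx3]; decide
  · have e1 : e (h.L (Pi.mulSingle j (Equiv.swap u s)) v) j' x = e v j' x := h.tr_e_ne hjj u s v x
    rw [e1, hv, pr, pr, Pi.single_eq_of_ne hjj, Pi.single_eq_of_ne hjj]
    rfl

/-- vectors with `e w i p = e w i q = 0` -/
theorem zero_Vf (hn : 5 ≤ n) {i : Fin k} {p q : Fin n} {w : W} (hp : e w i p = 0) (hq : e w i q = 0) :
    w ∈ h.Vf i p q := by
  classical
  obtain ⟨r, hr⟩ : ∃ r : Fin n, r ∉ ({p, q} : Finset (Fin n)) := by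
    by_contra hcon
    push Not at hcon
    have h1 : Fintype.card (Fin n) ≤ ({p, q} : Finset (Fin n)).card := by
      rw [← Finset.card_univ]
      exact Finset.card_le_card fun x _ => hcon x
    rw [Fintype.card_fin] at h1
    have h2 : ({p, q} : Finset (Fin n)).card ≤ 2 := Finset.card_le_two
    omega
  simp only [Finset.mem_insert, Finset.mem_singleton, not_or] at hr
  have key : ∀ a b : Fin n, (Pi.single a 1 : Fin n → ZMod 2) b = if b = a then 1 else 0 := fun a b => by
    rw [Pi.single_apply]
  choose v hv using fun (j : Fin k) (x : Fin n) => h.surj (pr j r x) (pr_sum j r x)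
  -- the sum
  have hsum : e w = e (∑ j, ∑ x, e w j x • v j x) := by
    rw [map_sum]
    funext j' x'
    rw [Finset.sum_apply, Finset.sum_apply]
    have e1 : ∀ j, e (∑ x, e w j x • v j x) j' x' = ∑ x, e w j x * pr j r x j' x' := by
      intro j
      rw [map_sum, Finset.sum_apply, Finset.sum_apply]
      refine Finset.sum_congr rfl fun x _ => ?_
      rcases z2 (e w j x) with h0 | h0
      · rw [h0, zero_smul, map_zero, zero_mul]; rfl
      · rw [h0, one_smul, one_mul, hv]
    simp only [e1]
    rw [Finset.sum_eq_single j']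
    · have e2 : ∀ x, e w j' x * pr j' r x j' x' =
          e w j' x * (if x' = r then 1 else 0) + if x = x' then e w j' x' else 0 := by
        intro x
        rw [pr, Pi.single_eq_same]
        simp only [Pi.add_apply, key]
        by_cases hx : x = x'
        · subst hx; simp [mul_add]
        · rw [if_neg hx, if_neg (Ne.symm hx)]; simp
      simp only [e2]
      rw [Finset.sum_add_distrib, ← Finset.sum_mul, h.even, zero_mul, zero_add, Finset.sum_ite_eq']
      simp
    · intro j _ hj
      refine Finset.sum_eq_zero fun x _ => ?_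
      rw [pr, Pi.single_eq_of_ne (Ne.symm hj), Pi.zero_apply, mul_zero]
    · intro hcon; exact absurd (Finset.mem_univ _) hcon
  refine h.Vf_of hsum.symm ?_
  refine AddSubgroup.sum_mem _ fun j _ => AddSubgroup.sum_mem _ fun x _ => ?_
  rcases z2 (e w j x) with h0 | h0
  · rw [h0, zero_smul]; exact (h.Vf i p q).zero_mem
  · rw [h0, one_smul]
    by_cases hxr : r = x
    · refine h.ker_Vf ?_
      rw [hv, ← hxr, pr]
      funext j' x'
      have e3 : (Pi.single r 1 + Pi.single r 1 : Fin n → ZMod 2) = 0 := by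
        funext z; exact CharTwo.add_self_eq_zero _
      rw [e3]
      simp
    · refine h.pair_Vf hn hxr (fun hj => ?_) (hv j x)
      subst hj
      refine ⟨⟨hr.1, hr.2⟩, ?_, ?_⟩
      · rintro rfl
        rw [hp] at h0; exact absurd h0 (by decide)
      · rintro rfl
        rw [hq] at h0; exact absurd h0 (by decide)

/-- the transposition is a transvection -/
theorem eq_Vf (hn : 5 ≤ n) {i : Fin k} {p q : Fin n} (hpq : p ≠ q) {w : W} (hw : e w i p = e w i q) :
    w ∈ h.Vf i p q := by
  classical
  rcases z2 (e w i p) with h0 | h0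
  · exact h.zero_Vf hn h0 (hw ▸ h0)
  · obtain ⟨r, hr⟩ : ∃ r : Fin n, r ∉ ({p, q} : Finset (Fin n)) := by
      by_contra hcon
      push Not at hcon
      have h1 : Fintype.card (Fin n) ≤ ({p, q} : Finset (Fin n)).card := by
        rw [← Finset.card_univ]
        exact Finset.card_le_card fun x _ => hcon x
      rw [Fintype.card_fin] at h1
      have h2 : ({p, q} : Finset (Fin n)).card ≤ 2 := Finset.card_le_two
      omega
    simp only [Finset.mem_insert, Finset.mem_singleton, not_or] at hr
    obtain ⟨v, hv⟩ := h.surj (pr i p q) (pr_sum i p q)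
    have h1 := h.pq_Vf hpq hr.1 hr.2 hv
    have ep : e (w + v) i p = 0 := by
      rw [map_add, Pi.add_apply, Pi.add_apply, h0, hv, pr, Pi.single_eq_same, Pi.add_apply, Pi.single_eq_same,
        Pi.single_eq_of_ne hpq]
      decide
    have eq : e (w + v) i q = 0 := by
      rw [map_add, Pi.add_apply, Pi.add_apply, ← hw, h0, hv, pr, Pi.single_eq_same, Pi.add_apply, Pi.single_eq_same,
        Pi.single_eq_of_ne hpq.symm]
      decide
    have h2 := (h.Vf i p q).add_mem (h.zero_Vf hn ep eq) h1
    have h3 : w + v + v = w := by linear_combination (norm := module) addself v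
    rwa [h3] at h2

theorem tr_sq (i : Fin k) (p q : Fin n) : h.tr i p q * h.tr i p q = 1 := by
  rw [tr, ← map_mul, ← Pi.mulSingle_mul, Equiv.swap_mul_self, Pi.mulSingle_one, map_one]

/-- `⟨(p q)⟩` is exact -/
theorem ex_tr [Finite W] (hn : 5 ≤ n) (i : Fin k) {p q : Fin n} (hpq : p ≠ q) :
    MEx y (zpowers (h.tr i p q)) ∧ h.tr i p q ≠ 1 := by
  classical
  obtain ⟨r, hr⟩ : ∃ r : Fin n, r ∉ ({p, q} : Finset (Fin n)) := by
    by_contra hcon
    push Not at hcon
    have h1 : Fintype.card (Fin n) ≤ ({p, q} : Finset (Fin n)).card := by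
      rw [← Finset.card_univ]
      exact Finset.card_le_card fun x _ => hcon x
    rw [Fintype.card_fin] at h1
    have h2 : ({p, q} : Finset (Fin n)).card ≤ 2 := Finset.card_le_two
    omega
  simp only [Finset.mem_insert, Finset.mem_singleton, not_or] at hr
  obtain ⟨v, hv⟩ := h.surj (pr i p r) (pr_sum i p r)
  have evp : e v i p = 1 := by
    rw [hv, pr, Pi.single_eq_same, Pi.add_apply, Pi.single_eq_same, Pi.single_eq_of_ne (Ne.symm hr.1)]
    decide
  have evq : e v i q = 0 := by
    rw [hv, pr, Pi.single_eq_same, Pi.add_apply, Pi.single_eq_of_ne hpq.symm, Pi.single_eq_of_ne (Ne.symm hr.2)]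
    decide
  have hne : h.tr i p q ≠ 1 := by
    intro h1
    have h2 := h.tr_e i p q v p
    rw [h1, Equiv.swap_apply_left, evq] at h2
    change e v i p = 0 at h2
    rw [evp] at h2
    exact absurd h2 (by decide)
  refine ⟨?_, hne⟩
  -- the functional
  let f : W →+ ZMod 2 :=
    { toFun := fun w => e w i p + e w i q
      map_zero' := by rw [map_zero]; rfl
      map_add' := by
        intro a b
        rw [map_add]
        simp only [Pi.add_apply]
        ring }
  have hf : ∀ w, f w = e w i p + e w i q := fun w => rfl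
  have hsurj : Function.Surjective f := by
    intro c
    rcases z2 c with rfl | rfl
    · exact ⟨0, map_zero f⟩
    · exact ⟨v, by rw [hf, evp, evq]; decide⟩
  have hker : ∀ w, w ∈ f.ker ↔ w ∈ cm y (zpowers (h.tr i p q)) := by
    intro w
    rw [AddMonoidHom.mem_ker, hf]
    constructor
    · intro h1
      have h2 : e w i p = e w i q := CharTwo.add_eq_zero.1 h1
      have h3 := h.eq_Vf hn hpq h2
      rw [mem_Vf] at h3
      intro b hb
      obtain ⟨m, rfl⟩ := mem_zpowers_iff.1 hb
      rcases Int.even_or_odd' m with ⟨c, rfl | rfl⟩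
      · left
        rw [zpow_mul]
        have : h.tr i p q ^ (2 : ℤ) = 1 := by
          rw [show (2 : ℤ) = ((2 : ℕ) : ℤ) from rfl, zpow_natCast, pow_two]; exact h.tr_sq i p q
        rw [this, one_zpow]; rfl
      · have : h.tr i p q ^ (2 * c + 1) = h.tr i p q := by
          rw [zpow_add, zpow_mul, zpow_one]
          have : h.tr i p q ^ (2 : ℤ) = 1 := by
            rw [show (2 : ℤ) = ((2 : ℕ) : ℤ) from rfl, zpow_natCast, pow_two]; exact h.tr_sq i p q
          rw [this, one_zpow, one_mul]
        rw [this]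
        exact mod_iff.1 h3
    · intro h1
      have h2 := mod_iff.2 (h1 _ (mem_zpowers _))
      have h3 := h.toEk.e_Yy h2
      rw [map_add] at h3
      have h4 := congrFun (congrFun h3 i) p
      rw [Pi.add_apply, Pi.add_apply, h.tr_e, Equiv.swap_apply_left] at h4
      rw [add_comm]; exact h4
  have hc2 : Nat.card (zpowers (h.tr i p q)) = 2 := by
    rw [Nat.card_zpowers]
    exact orderOf_eq_prime (by rw [pow_two]; exact h.tr_sq i p q) hne
  have h1 : Nat.card f.ker * f.ker.index = Nat.card W := f.ker.card_mul_index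
  have h2 : f.ker.index = 2 := by
    rw [AddSubgroup.index_ker, AddMonoidHom.range_eq_top.2 hsurj]
    rw [AddSubgroup.card_top]
    exact Nat.card_zmod 2
  have h3 : Nat.card f.ker = Nat.card (cm y (zpowers (h.tr i p q))) := Nat.card_congr (Equiv.subtypeEquivRight hker)
  rw [h2, h3] at h1
  unfold MEx
  rw [hc2, ← h1, mul_comm]

end SymW

end Cfsg.Agent.Omega.FOne.Act

end

section


/-!
# (F1'), the minimal parabolic case: the FF theorem for `W / y`
-/

set_option autoImplicit false
set_option linter.unusedSectionVars false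

namespace Cfsg.Agent.Omega.FOne.Act

open Subgroup
open Cfsg.Agent.Lib.SL2Mat Cfsg.Agent.Omega.NatPair Cfsg.Agent.Omega.FFBr
open Cfsg.Agent.Omega.FOne.Tvw (Base addself z2 eq_of_add_eq_zero' ap_inv inv_ap)
open Cfsg.Agent.Omega.FOne.AT
open Cfsg.Agent.Omega.FOne.NOv (cm MEx MAtom)

universe u

variable {W : Type u} [AddCommGroup W] [Module (ZMod 2) W]

/-- `W / y`, written multiplicatively -/
abbrev MV (y : W) : Type u := Multiplicative (W ⧸ Yy y)

/-- the projection -/
def mk (y w : W) : MV y := Multiplicative.ofAdd (QuotientAddGroup.mk w)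

theorem mk_add (y a b : W) : mk y (a + b) = mk y a * mk y b := rfl

theorem mk_surj {y : W} (v : MV y) : ∃ w, mk y w = v := by
  obtain ⟨w, hw⟩ := QuotientAddGroup.mk_surjective (Multiplicative.toAdd v)
  exact ⟨w, congrArg Multiplicative.ofAdd hw⟩

theorem mk_eq {y a b : W} : mk y a = mk y b ↔ a + b ∈ Yy y := by
  have h1 : mk y a = mk y b ↔ (QuotientAddGroup.mk a : W ⧸ Yy y) = QuotientAddGroup.mk b := Iff.rfl
  rw [h1, QuotientAddGroup.eq]
  have h2 : -a = a := neg_eq_of_add_eq_zero_left (addself a)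
  rw [h2]

theorem mk_one {y a : W} : mk y a = 1 ↔ a ∈ Yy y := by
  have h1 : (1 : MV y) = mk y 0 := rfl
  rw [h1, mk_eq, add_zero]

variable {H : Subgroup (W ≃ₗ[ZMod 2] W)} {y : W}

theorem map_le (hf : ∀ h ∈ H, h y = y) (h : H) :
    Yy y ≤ (Yy y).comap (lin (h : W ≃ₗ[ZMod 2] W)) := by
  intro a ha
  rw [AddSubgroup.mem_comap]
  rcases ha with rfl | rfl
  · rw [map_zero]; exact (Yy y).zero_mem
  · change (h : W ≃ₗ[ZMod 2] W) a ∈ Yy a
    rw [hf h h.2]; exact y_mem a

/-- `H` acts on `W / y` -/
@[reducible] def act (hf : ∀ h ∈ H, h y = y) : MulDistribMulAction H (MV y) where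
  smul h v := Multiplicative.ofAdd (QuotientAddGroup.map (Yy y) (Yy y) (lin (h : W ≃ₗ[ZMod 2] W)) (map_le hf h)
    (Multiplicative.toAdd v))
  one_smul v := by
    obtain ⟨w, rfl⟩ := mk_surj v
    rfl
  mul_smul g h v := by
    obtain ⟨w, rfl⟩ := mk_surj v
    rfl
  smul_mul g v w := by
    change Multiplicative.ofAdd (QuotientAddGroup.map (Yy y) (Yy y) (lin (g : W ≃ₗ[ZMod 2] W)) (map_le hf g)
      (Multiplicative.toAdd v + Multiplicative.toAdd w)) = _
    rw [map_add]
    rfl
  smul_one g := by
    change Multiplicative.ofAdd (QuotientAddGroup.map (Yy y) (Yy y) (lin (g : W ≃ₗ[ZMod 2] W)) (map_le hf g) 0) = _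
    rw [map_zero]
    rfl

/-- an action of `H` on `W / y` which is the natural one -/
structure IsA (H : Subgroup (W ≃ₗ[ZMod 2] W)) (y : W) [MulDistribMulAction H (MV y)] : Prop where
  smul : ∀ (h : H) (w : W), h • mk y w = mk y ((h : W ≃ₗ[ZMod 2] W) w)

theorem isA_act (hf : ∀ h ∈ H, h y = y) : @IsA W _ _ H y (act hf) := @IsA.mk W _ _ H y (act hf) fun _ _ => rfl

/-- the functional of `V` as a functional of `W` -/
def pull {E : Type*} [AddCommGroup E] (e : MV y → E) (he : ∀ v w, e (v * w) = e v + e w) : W →+ E :=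
  AddMonoidHom.mk' (fun w => e (mk y w)) fun a b => by rw [mk_add, he]

section

variable [MulDistribMulAction H (MV y)]

theorem kinv_odd (h : H) {v : MV y} (hv : v ∈ odd H (MV y)) : h • v ∈ odd H (MV y) := by
  intro x hx
  have h1 : (h⁻¹ * x * h) • v = v := hv _ (by
    have : orderOf (h⁻¹ * x * h) = orderOf x := by
      have e1 : (MulAut.conj h⁻¹) x = h⁻¹ * x * h := by simp
      rw [← e1]
      exact MulEquiv.orderOf_eq _ x
    rw [this]; exact hx)
  have h2 := congrArg (fun z => h • z) h1
  simp only [smul_smul] at h2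
  rw [smul_smul]
  have e2 : h * (h⁻¹ * x * h) = x * h := by group
  rw [e2] at h2
  exact h2

variable (hA : IsA H y)
include hA

theorem ek_pull (b : Base H y) {E : Type*} [AddCommGroup E] {e : MV y → E} (he : ∀ v w, e (v * w) = e v + e w)
    (hker : ∀ v, e v = 0 ↔ v ∈ odd H (MV y)) : Ek H y (pull e he) where
  base := b
  ey := by
    change e (mk y y) = 0
    have h1 : mk y y = 1 := mk_one.2 (y_mem y)
    rw [h1, hker]
    exact (odd H (MV y)).one_mem
  kinv := by
    intro h hh w hw
    change e (mk y (h w)) = 0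
    change e (mk y w) = 0 at hw
    rw [hker] at hw ⊢
    have h1 := kinv_odd ⟨h, hh⟩ hw
    rw [hA.smul] at h1
    exact h1

theorem tr_of (b : Base H y) {E : Type*} [AddCommGroup E] {e : MV y → E} (he : ∀ v w, e (v * w) = e v + e w)
    (hker : ∀ v, e v = 0 ↔ v ∈ odd H (MV y)) {g : H} (hg : ∀ d ∈ odd H (MV y), g • d = d) {w : W}
    (hw : pull e he w = 0) : (g : W ≃ₗ[ZMod 2] W) w + w ∈ Yy y := by
  have h1 := hg (mk y w) ((hker _).1 hw)
  rw [hA.smul] at h1
  exact mk_eq.1 h1

/-- the natural case -/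
theorem natW_of (b : Base H y) {T : Subgroup (W ≃ₗ[ZMod 2] W)} (hTH : T ≤ H) {F : Type} [Field F] {k : ℕ}
    (n : AbsNat F (T.subgroupOf H) (MV y) k) : NatW H y T (pull n.e n.mul) where
  toEk := ek_pull hA b n.mul n.ker
  TH := hTH
  surj := by
    intro x
    obtain ⟨v, hv⟩ := n.surj x
    obtain ⟨w, rfl⟩ := mk_surj v
    exact ⟨w, hv⟩
  lift := by
    intro A
    obtain ⟨g, h1, h2⟩ := n.lift A
    refine ⟨g, g.2, fun w i => ?_, fun w hw => tr_of hA b n.mul n.ker h2 hw⟩
    have := h1 (mk y w) i
    rw [hA.smul] at this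
    exact this
  norm := by
    intro g hg x hx A hA'
    obtain ⟨B, hB⟩ := n.norm ⟨g, hg⟩ ⟨x, hx⟩ A (fun v i => by
      obtain ⟨w, rfl⟩ := mk_surj v
      rw [hA.smul]
      exact hA' w i)
    refine ⟨B, fun w i => ?_⟩
    have := hB (mk y w) i
    rw [hA.smul] at this
    exact this
  line := by
    intro t ht
    obtain ⟨σ, hσ⟩ := n.line ⟨t, hTH ht⟩ ht
    refine ⟨σ, fun w i => ?_⟩
    have := hσ (mk y w) i
    rw [hA.smul] at this
    exact this
  unip := by
    intro b'
    obtain ⟨t, ht, h1, h2⟩ := n.unip b'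
    refine ⟨t, ht, fun w i => ?_, fun w hw => tr_of hA b n.mul n.ker h2 hw⟩
    have := h1 (mk y w) i
    rw [hA.smul] at this
    exact this

/-- the symmetric case -/
theorem symW_of (b : Base H y) {T : Subgroup H} {k m : ℕ} (n : AbsSym T (MV y) k m) :
    SymW H y (pull n.e n.mul) where
  toEk := ek_pull hA b n.mul n.ker
  even := fun w i => n.even (mk y w) i
  surj := by
    intro z hz
    obtain ⟨v, hv⟩ := n.surj z hz
    obtain ⟨w, rfl⟩ := mk_surj v
    exact ⟨w, hv⟩
  lift := by
    intro τ
    obtain ⟨g, h1, h2⟩ := n.lift τ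
    refine ⟨g, g.2, fun w i x => ?_, fun w hw => tr_of hA b n.mul n.ker h2 hw⟩
    have := h1 (mk y w) i x
    rw [hA.smul] at this
    exact this

end

end Cfsg.Agent.Omega.FOne.Act

end

section


/-!
# (F1'), the minimal parabolic case

`false_of_min` : `H` is not minimal parabolic (`T` is in at least two maximal subgroups), from the FF theorem and the
swap of `θ`, `θ + y` by `T`.
-/

set_option autoImplicit false
set_option linter.unusedSectionVars false

namespace Cfsg.Agent.Omega.FOne.Act

open Subgroup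
open Cfsg.Agent.Lib.SL2Mat Cfsg.Agent.Omega.NatPair Cfsg.Agent.Omega.FFBr
open Cfsg.Agent.Omega.FOne.Tvw (Base addself z2 eq_of_add_eq_zero' ap_inv inv_ap)
open Cfsg.Agent.Omega.FOne.AT
open Cfsg.Agent.Omega.FOne.NOv (cm MEx MAtom)
open Cfsg.Agent.ClassTwoFusion.Quad (cv mem_cv)

universe u

variable {W : Type u} [AddCommGroup W] [Module (ZMod 2) W] {H : Subgroup (W ≃ₗ[ZMod 2] W)} {y : W}

/-- the projection as a homomorphism -/
def mkH (y : W) : Multiplicative W →* MV y := AddMonoidHom.toMultiplicative (QuotientAddGroup.mk' (Yy y))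

theorem mkH_apply (y w : W) : mkH y (Multiplicative.ofAdd w) = mk y w := rfl

theorem mkH_surj (y : W) : Function.Surjective (mkH y) := fun v => by
  obtain ⟨w, hw⟩ := mk_surj v
  exact ⟨Multiplicative.ofAdd w, hw⟩

section

variable [Finite W] [MulDistribMulAction H (MV y)] (hA : IsA H y)
include hA

/-- exactness on `W / y` -/
theorem index_cv {B : Subgroup (W ≃ₗ[ZMod 2] W)} (hBH : B ≤ H) (ex : MEx y B) :
    (cv (MV y) ((B.subgroupOf H : Subgroup H) : Set H)).index = Nat.card B := by
  classical
  have h1 := Subgroup.index_comap_of_surjective (cv (MV y) ((B.subgroupOf H : Subgroup H) : Set H)) (mkH_surj y)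
  rw [← h1]
  set C := (cv (MV y) ((B.subgroupOf H : Subgroup H) : Set H)).comap (mkH y) with hC
  have h2 : Nat.card C = Nat.card (cm y B) := by
    refine Nat.card_congr (Equiv.subtypeEquiv Multiplicative.toAdd fun w => ?_)
    obtain ⟨w, rfl⟩ := Multiplicative.ofAdd.surjective w
    rw [hC, mem_comap, mem_cv]
    change (∀ a ∈ (B.subgroupOf H : Set H), a • mk y w = mk y w) ↔ ∀ b ∈ B, b w = w ∨ b w = w + y
    constructor
    · intro h3 b hb
      have h4 := h3 ⟨b, hBH hb⟩ hb
      rw [hA.smul, mk_eq] at h4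
      exact mod_iff.1 h4
    · intro h3 a ha
      rw [hA.smul, mk_eq]
      exact mod_iff.2 (h3 _ ha)
  have h3 : Nat.card C * C.index = Nat.card W := C.card_mul_index
  rw [h2] at h3
  unfold MEx at ex
  have hpos : 0 < Nat.card (cm y B) := by
    have : Nonempty (cm y B) := ⟨⟨0, Cfsg.Agent.Omega.FOne.NOv.zero_mem_cm⟩⟩
    exact Nat.card_pos
  refine Nat.eq_of_mul_eq_mul_left hpos ?_
  rw [h3, ← ex, mul_comm]

theorem aOff_of {B : Subgroup (W ≃ₗ[ZMod 2] W)} (hBH : B ≤ H) (sq : ∀ b ∈ B, b * b = 1) (hne : B ≠ ⊥)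
    (ex : MEx y B) : AOff (MV y) (B.subgroupOf H) where
  comm := by
    intro a ha b hb
    have h1 := sq _ (B.mul_mem ha hb)
    have ha2 := sq _ ha
    have hb2 := sq _ hb
    apply Subtype.ext
    change (a : W ≃ₗ[ZMod 2] W) * b = b * a
    have h2 : ((a : W ≃ₗ[ZMod 2] W) * b)⁻¹ = a * b := inv_eq_of_mul_eq_one_left h1
    have ha3 : (a : W ≃ₗ[ZMod 2] W)⁻¹ = a := inv_eq_of_mul_eq_one_left ha2
    have hb3 : (b : W ≃ₗ[ZMod 2] W)⁻¹ = b := inv_eq_of_mul_eq_one_left hb2
    rw [← h2, mul_inv_rev, ha3, hb3]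
  sq := fun a ha => Subtype.ext (sq _ ha)
  ne := by
    intro h
    apply hne
    rw [eq_bot_iff]
    intro b hb
    have h1 : (⟨b, hBH hb⟩ : H) ∈ B.subgroupOf H := hb
    rw [h, mem_bot] at h1
    exact mem_bot.2 (congrArg Subtype.val h1)
  le := by
    rw [index_cv hA hBH ex]
    exact (Nat.card_congr (Subgroup.subgroupOfEquivOfLe hBH).toEquiv).ge

end

/-- if every element of `H` is trivial on `W / y`, then `H = 1` -/
theorem false_of_triv {T : Subgroup (W ≃ₗ[ZMod 2] W)} (TH : T ≤ H)
    (fix : ∀ w, (∀ t ∈ T, t w = w) → w = 0 ∨ w = y) {θ : W} (θ0 : θ ≠ 0) (θy : θ ≠ y) (h1 : H = ⊥) : False := by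
  rcases fix θ (fun t ht => by
    have h2 := TH ht
    rw [h1, mem_bot] at h2
    rw [h2]; rfl) with h | h
  · exact θ0 h
  · exact θy h

/-- **the minimal parabolic case**, from the FF theorem -/
theorem false_of_min (hFF : AStmt.{u}) [Finite W] (base : Base H y) {T : Subgroup (W ≃ₗ[ZMod 2] W)} (TH : T ≤ H)
    (two : IsPGroup 2 T) (syl : ¬ 2 ∣ T.relIndex H) (fix : ∀ w, (∀ t ∈ T, t w = w) → w = 0 ∨ w = y) {θ : W}
    (θ0 : θ ≠ 0) (θy : θ ≠ y) (Tθ : ∀ t ∈ T, t θ + θ ∈ Yy y)
    (gen : ∀ U : Submodule (ZMod 2) W, y ∈ U → (∀ x ∈ H, x θ ∈ U) → U = ⊤) {B : Subgroup (W ≃ₗ[ZMod 2] W)}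
    (BT : B ≤ T) (sq : ∀ b ∈ B, b * b = 1) (hB : MAtom y B) (h4 : 4 ≤ Nat.card B)
    {M0 : Subgroup (W ≃ₗ[ZMod 2] W)} (hM0 : ¬ H ≤ M0) (max : ∀ K, T ≤ K → K ≤ H → K ≤ M0 ∨ K = H) : False := by
  classical
  have hfin : Finite (W ≃ₗ[ZMod 2] W) := DFunLike.finite _
  let ia : MulDistribMulAction H (MV y) := act base.fix
  have hA : IsA H y := isA_act base.fix
  have hBH := BT.trans TH
  have hHne : H ≠ ⊥ := fun h => false_of_triv TH fix θ0 θy h
  have hTM : T ≤ M0 := by
    rcases max T le_rfl TH with h | h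
    · exact h
    · exfalso
      exact hHne (base.core H le_rfl (fun g hg n hn => H.mul_mem (H.mul_mem hg hn) (H.inv_mem hg)) (h ▸ two))
  -- the Sylow group
  have hT2 : IsPGroup 2 (T.subgroupOf H) := two.comap_of_injective H.subtype H.subtype_injective
  have hTi : ¬ 2 ∣ (T.subgroupOf H).index := syl
  let S : Sylow 2 H := hT2.toSylow hTi
  have hS : (S : Subgroup H) = T.subgroupOf H := rfl
  have hmem : ∀ x : H, x ∈ S ↔ (x : W ≃ₗ[ZMod 2] W) ∈ T := fun x => Iff.rfl
  have hfixθ : ∀ t ∈ S, t • mk y θ = mk y θ := by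
    intro t ht
    rw [hA.smul, mk_eq]
    exact Tθ _ ht
  have abs : Abs H (MV y) S (M0.subgroupOf H) :=
    { comm := fun v w => mul_comm v w
      sq := by
        intro v
        obtain ⟨w, rfl⟩ := mk_surj v
        rw [← mk_add, addself, mk_one]
        exact (Yy y).zero_mem
      faith := by
        intro x hx
        apply Subtype.ext
        refine Base.one_of base x.2 fun w => ?_
        have := hx (mk y w)
        rw [hA.smul, mk_eq] at this
        exact this
      core := by
        intro N hN hN2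
        have h1 := base.core (N.map H.subtype) (map_subtype_le N) (by
          rintro h hh _ ⟨n, hn, rfl⟩
          exact ⟨⟨h, hh⟩ * n * ⟨h, hh⟩⁻¹, hN.conj_mem n hn ⟨h, hh⟩, rfl⟩) (hN2.map H.subtype)
        exact (map_eq_bot_iff_of_injective N H.subtype_injective).1 h1
      TM := fun x hx => hTM hx
      Mne := by
        intro h
        apply hM0
        intro x hx
        have h1 : (⟨x, hx⟩ : H) ∈ M0.subgroupOf H := by rw [h]; exact mem_top _
        exact h1
      max := by
        intro K hK
        have h1 : T ≤ K.map H.subtype := fun t ht => ⟨⟨t, TH ht⟩, hK ht, rfl⟩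
        rcases max _ h1 (map_subtype_le K) with h2 | h2
        · left
          intro x hx
          exact h2 ⟨x, hx, rfl⟩
        · right
          rw [eq_top_iff]
          intro x _
          have h3 : (x : W ≃ₗ[ZMod 2] W) ∈ K.map H.subtype := by rw [h2]; exact x.2
          obtain ⟨z, hz, hzx⟩ := h3
          have : z = x := Subtype.ext hzx
          rwa [← this]
      gen := by
        intro U hU
        let U' : Submodule (ZMod 2) W :=
          { carrier := {w | mk y w ∈ U}
            zero_mem' := U.one_mem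
            add_mem' := fun {a b} ha hb => U.mul_mem ha hb
            smul_mem' := by
              intro c w hw
              rcases z2 c with rfl | rfl
              · rw [zero_smul]; exact U.one_mem
              · rw [one_smul]; exact hw }
        have h1 : U' = ⊤ := gen U' (by
          change mk y y ∈ U
          rw [mk_one.2 (y_mem y)]; exact U.one_mem) fun x hx => by
            change mk y (x θ) ∈ U
            have h2 := hU (mk y θ) (fun t ht => hfixθ t ht) ⟨x, hx⟩
            rw [hA.smul] at h2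
            exact h2
        rw [eq_top_iff]
        intro v _
        obtain ⟨w, rfl⟩ := mk_surj v
        have h2 : w ∈ U' := by rw [h1]; exact Submodule.mem_top
        exact h2
      nfix := by
        refine ⟨mk y θ, hfixθ, ?_⟩
        by_contra hcon
        push Not at hcon
        -- `H` is trivial on `W / y`
        let U : Submodule (ZMod 2) W :=
          { carrier := {w | ∀ x ∈ H, x w + w ∈ Yy y}
            zero_mem' := fun x _ => by rw [map_zero, add_zero]; exact (Yy y).zero_mem
            add_mem' := by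
              intro a b ha hb x hx
              have e1 : x (a + b) + (a + b) = (x a + a) + (x b + b) := by rw [map_add]; abel
              rw [e1]; exact (Yy y).add_mem (ha x hx) (hb x hx)
            smul_mem' := by
              intro c w hw x hx
              rcases z2 c with rfl | rfl
              · rw [zero_smul, map_zero, add_zero]; exact (Yy y).zero_mem
              · rw [one_smul]; exact hw x hx }
        have hθ : ∀ x ∈ H, x θ + θ ∈ Yy y := by
          intro x hx
          have := hcon ⟨x, hx⟩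
          rw [hA.smul, mk_eq] at this
          exact this
        have h1 : U = ⊤ := gen U (fun x hx => by
          rw [base.fix x hx, addself]; exact (Yy y).zero_mem) fun x hx g hg => by
            have h2 := hθ x hx
            have h3 := hθ (g * x) (H.mul_mem hg hx)
            change g (x θ) + θ ∈ Yy y at h3
            have e1 : g (x θ) + x θ = g (x θ) + θ + (x θ + θ) := by
              linear_combination (norm := module) -addself θ
            rw [e1]; exact (Yy y).add_mem h3 h2
        apply hHne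
        rw [eq_bot_iff]
        intro x hx
        rw [mem_bot]
        refine Base.one_of base hx fun w => ?_
        have h2 : w ∈ U := by rw [h1]; exact Submodule.mem_top
        exact h2 x hx }
  have hoff := aOff_of hA hBH sq hB.ne hB.ex
  obtain ⟨-, hC⟩ := hFF H (MV y) S (M0.subgroupOf H) abs ⟨_, hoff⟩
  rcases hC with ⟨F, iF, fF, cF, k, hk, ⟨n⟩⟩ | ⟨k, m, hk, hm, ⟨n⟩⟩
  · have h1 : NatW H y T (pull n.e n.mul) := natW_of hA base TH n
    by_cases hν : ∃ ν : F, ν ≠ 0 ∧ ν ≠ 1
    · let _ := Fintype.ofFinite F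
      exact h1.false_big hν hk two syl fix Tθ gen
    · push Not at hν
      exact h1.false_two (fun x => by
        by_cases hx : x = 0
        · exact Or.inl hx
        · exact Or.inr (hν x hx)) hk two fix
  · have h1 : SymW H y (pull n.e n.mul) := symW_of hA base n
    have hBS : B.subgroupOf H ≤ (S : Subgroup H) := fun x hx => BT hx
    obtain ⟨h2, h3⟩ := n.off _ hBS hoff
    obtain ⟨a, ha, ha1⟩ : ∃ a ∈ B, a ≠ 1 := by
      by_contra hcon
      push Not at hcon
      exact hB.ne (by rw [eq_bot_iff]; exact fun x hx => mem_bot.2 (hcon x hx))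
    obtain ⟨τ, hτ, hτ2⟩ := h3 ⟨a, hBH ha⟩ ha
    obtain ⟨i, x, hx⟩ : ∃ i x, τ i x ≠ x := by
      by_contra hcon
      push Not at hcon
      apply ha1
      refine h1.toEk.uniq (hBH ha) (fun w => ?_) fun w hw => tr_of hA base n.mul n.ker (h2 ⟨a, hBH ha⟩ ha) hw
      funext i x
      have h5 := hτ (mk y w) i x
      rw [hA.smul, hcon i x] at h5
      exact h5
    obtain ⟨-, b, hb, hb2⟩ := hτ2 i x hx
    have hbe : (b : W ≃ₗ[ZMod 2] W) = h1.tr i x (τ i x) := by
      refine h1.eq_L b.2 (fun w j z => ?_) fun w hw => tr_of hA base n.mul n.ker (h2 b hb) hw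
      have h5 := hb2 (mk y w) j z
      rw [hA.smul] at h5
      exact h5
    have hn : 5 ≤ 2 ^ m + 1 := by
      have : 2 ^ 2 ≤ 2 ^ m := Nat.pow_le_pow_right (by norm_num) hm
      omega
    obtain ⟨h6, h7⟩ := h1.ex_tr hn i (Ne.symm hx)
    rw [← hbe] at h6 h7
    have h8 : zpowers (b : W ≃ₗ[ZMod 2] W) ≤ B := zpowers_le.2 hb
    have h9 := hB.min _ h8 (by
      intro h
      exact h7 (zpowers_eq_bot.1 h)) h6
    have h10 : Nat.card (zpowers (b : W ≃ₗ[ZMod 2] W)) ≤ 2 := by
      rw [Nat.card_zpowers]
      refine Nat.le_of_dvd (by norm_num) (orderOf_dvd_of_pow_eq_one ?_)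
      rw [pow_two]; exact sq _ hb
    rw [h9] at h10
    omega

end Cfsg.Agent.Omega.FOne.Act

end

section


/-!
# (F1), the minimal parabolic case over `R`: sums of even-subset modules of `S_n`

A transposition lift is a transvection of `W / R`, so an atom has order 2.
-/

set_option autoImplicit false
set_option linter.unusedSectionVars false

namespace Cfsg.Agent.Omega.FOne.ActR

open Subgroup
open Cfsg.Agent.Omega.FOne.Tvw (Base addself z2 eq_of_add_eq_zero' ap_inv inv_ap)
open Cfsg.Agent.Omega.FOne.AT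
open Cfsg.Agent.Omega.FOne.Act (pr pr_sum)

variable {W : Type*} [AddCommGroup W] [Module (ZMod 2) W] {k n : ℕ}

/-- the conclusion of the FF theorem in the symmetric case, for `W / R` -/
structure SymW (H : Subgroup (W ≃ₗ[ZMod 2] W)) (R : AddSubgroup W) (e : W →+ (Fin k → Fin n → ZMod 2)) : Prop
    extends Ek H R e where
  even : ∀ w i, ∑ x, e w i x = 0
  surj : ∀ z : Fin k → Fin n → ZMod 2, (∀ i, ∑ x, z i x = 0) → ∃ w, e w = z
  lift : ∀ τ : Fin k → Equiv.Perm (Fin n), ∃ g ∈ H, (∀ w i x, e (g w) i (τ i x) = e w i x) ∧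
    ∀ w, e w = 0 → g w + w ∈ R

/-- the preimage in `W` of the fixed points of `B` on `W / R` -/
def cmR (R : AddSubgroup W) (B : Subgroup (W ≃ₗ[ZMod 2] W)) : Set W := {w | ∀ b ∈ B, b w + w ∈ R}

/-- `B` is exact on `W / R` -/
def MExR (R : AddSubgroup W) (B : Subgroup (W ≃ₗ[ZMod 2] W)) : Prop :=
  Nat.card B * Nat.card (cmR R B) = Nat.card W

/-- a minimal exact group -/
structure MAtomR (R : AddSubgroup W) (B : Subgroup (W ≃ₗ[ZMod 2] W)) : Prop where
  ne : B ≠ ⊥
  ex : MExR R B
  min : ∀ B' ≤ B, B' ≠ ⊥ → MExR R B' → B' = B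

namespace SymW

variable {H : Subgroup (W ≃ₗ[ZMod 2] W)} {R : AddSubgroup W} {e : W →+ (Fin k → Fin n → ZMod 2)}
variable (h : SymW H R e)

/-- the lift -/
noncomputable def L : (Fin k → Equiv.Perm (Fin n)) →* (W ≃ₗ[ZMod 2] W) :=
  MonoidHom.mk' (fun A => (h.lift A).choose) fun A B => by
    obtain ⟨h1, h2, h3⟩ := (h.lift (A * B)).choose_spec
    obtain ⟨a1, a2, a3⟩ := (h.lift A).choose_spec
    obtain ⟨b1, b2, b3⟩ := (h.lift B).choose_spec
    refine h.toEk.uniq2 h1 (H.mul_mem a1 b1) (fun w => ?_) h3 fun w hw => ?_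
    · funext i x
      change _ = e ((h.lift A).choose ((h.lift B).choose w)) i x
      obtain ⟨z, rfl⟩ := (A i).surjective x
      obtain ⟨x, rfl⟩ := (B i).surjective z
      rw [a2, b2]
      exact h2 w i x
    · change (h.lift A).choose ((h.lift B).choose w) + w ∈ R
      have h4 := b3 w hw
      have h5 := a3 ((h.lift B).choose w) (h.kinv _ b1 w hw)
      have h6 : (h.lift A).choose ((h.lift B).choose w) + w =
          (h.lift A).choose ((h.lift B).choose w) + (h.lift B).choose w + ((h.lift B).choose w + w) := by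
        linear_combination (norm := module) -addself ((h.lift B).choose w)
      rw [h6]
      exact R.add_mem h5 h4

theorem L_mem (A : Fin k → Equiv.Perm (Fin n)) : h.L A ∈ H := (h.lift A).choose_spec.1

theorem L_e (A : Fin k → Equiv.Perm (Fin n)) (w : W) (i : Fin k) (x : Fin n) :
    e (h.L A w) i (A i x) = e w i x := (h.lift A).choose_spec.2.1 w i x

theorem L_e' (A : Fin k → Equiv.Perm (Fin n)) (w : W) (i : Fin k) (x : Fin n) :
    e (h.L A w) i x = e w i ((A i)⁻¹ x) := by
  have := h.L_e A w i ((A i)⁻¹ x)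
  rwa [show (A i) ((A i)⁻¹ x) = x from (A i).apply_symm_apply x] at this

theorem L_R (A : Fin k → Equiv.Perm (Fin n)) {w : W} (hw : e w = 0) : h.L A w + w ∈ R :=
  (h.lift A).choose_spec.2.2 w hw

theorem eq_L {g : W ≃ₗ[ZMod 2] W} (hg : g ∈ H) {A : Fin k → Equiv.Perm (Fin n)}
    (h1 : ∀ w i x, e (g w) i (A i x) = e w i x) (h2 : ∀ w, e w = 0 → g w + w ∈ R) : g = h.L A :=
  h.toEk.uniq2 hg (h.L_mem A) (fun w => by
    funext i x
    obtain ⟨z, rfl⟩ := (A i).surjective x
    rw [h1, L_e]) h2 fun w hw => h.L_R A hw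

/-- the transposition `(p q)` of the block `i` -/
noncomputable def tr (i : Fin k) (p q : Fin n) : W ≃ₗ[ZMod 2] W := h.L (Pi.mulSingle i (Equiv.swap p q))

theorem tr_mem (i : Fin k) (p q : Fin n) : h.tr i p q ∈ H := h.L_mem _

theorem tr_e (i : Fin k) (p q : Fin n) (w : W) (x : Fin n) : e (h.tr i p q w) i x = e w i (Equiv.swap p q x) := by
  rw [tr, h.L_e', Pi.mulSingle_eq_same, Equiv.swap_inv]

theorem tr_e_ne {i j : Fin k} (hj : j ≠ i) (p q : Fin n) (w : W) (x : Fin n) : e (h.tr i p q w) j x = e w j x := by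
  rw [tr, h.L_e', Pi.mulSingle_eq_of_ne hj]; rfl

theorem tr_R (i : Fin k) (p q : Fin n) {w : W} (hw : e w = 0) : h.tr i p q w + w ∈ R := h.L_R _ hw

/-- the fixed space of the transposition, modulo `R` -/
noncomputable def Vf (i : Fin k) (p q : Fin n) : AddSubgroup W where
  carrier := {w | h.tr i p q w + w ∈ R}
  zero_mem' := by
    change h.tr i p q 0 + 0 ∈ R
    rw [map_zero, add_zero]; exact R.zero_mem
  add_mem' := by
    intro a b ha hb
    change h.tr i p q (a + b) + (a + b) ∈ R
    have h1 : h.tr i p q (a + b) + (a + b) = (h.tr i p q a + a) + (h.tr i p q b + b) := by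
      rw [map_add]; abel
    rw [h1]; exact R.add_mem ha hb
  neg_mem' := by
    intro a ha
    change h.tr i p q (-a) + -a ∈ R
    have h1 : h.tr i p q (-a) + -a = -(h.tr i p q a + a) := by
      rw [map_neg]; abel
    rw [h1]; exact R.neg_mem ha

theorem mem_Vf {i : Fin k} {p q : Fin n} {w : W} : w ∈ h.Vf i p q ↔ h.tr i p q w + w ∈ R := Iff.rfl

theorem ker_Vf {i : Fin k} {p q : Fin n} {w : W} (hw : e w = 0) : w ∈ h.Vf i p q := h.tr_R i p q hw

/-- the membership depends on `e w` only -/
theorem Vf_of {i : Fin k} {p q : Fin n} {w w' : W} (hw : e w = e w') (h1 : w ∈ h.Vf i p q) : w' ∈ h.Vf i p q := by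
  have h2 : e (w + w') = 0 := by rw [map_add, hw, ← map_add, addself, map_zero]
  have h3 := (h.Vf i p q).add_mem h1 (h.ker_Vf (i := i) (p := p) (q := q) h2)
  have h4 : w + (w + w') = w' := by linear_combination (norm := module) addself w
  rwa [h4] at h3

/-- (c1) -/
theorem comm_Vf {i : Fin k} {p q : Fin n} {A : Fin k → Equiv.Perm (Fin n)}
    (hA : Pi.mulSingle i (Equiv.swap p q) * A = A * Pi.mulSingle i (Equiv.swap p q)) {v : W}
    (hv : e (h.tr i p q v) = e v) : v + h.L A v ∈ h.Vf i p q := by
  rw [mem_Vf]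
  have hd : e (h.tr i p q v + v) = 0 := by rw [map_add, hv, ← map_add, addself, map_zero]
  have h1 : h.tr i p q (h.L A v) = h.L A (h.tr i p q v) := by
    change (h.L _ * h.L A) v = (h.L A * h.L _) v
    rw [← map_mul, hA, map_mul]
  have h2 := h.L_R A hd
  rw [map_add] at h2
  rw [map_add, h1]
  have h3 : h.tr i p q v + h.L A (h.tr i p q v) + (v + h.L A v) =
      h.L A (h.tr i p q v) + h.L A v + (h.tr i p q v + v) := by abel
  rw [h3]; exact h2

/-- (c3) the pair `{p, q}` -/
theorem pq_Vf {i : Fin k} {p q r : Fin n} (hpq : p ≠ q) (hrp : r ≠ p) (hrq : r ≠ q) {v : W}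
    (hv : e v = pr i p q) : v ∈ h.Vf i p q := by
  rw [mem_Vf]
  have hb : e (h.tr i p q v) = e v := by
    funext j x
    by_cases hj : j = i
    · subst hj
      rw [h.tr_e, hv, pr, Pi.single_eq_same, Pi.add_apply, Pi.add_apply]
      by_cases hx : x = p
      · subst hx
        rw [Equiv.swap_apply_left, Pi.single_eq_same, Pi.single_eq_same, Pi.single_eq_of_ne hpq,
          Pi.single_eq_of_ne hpq.symm, add_comm]
      · by_cases hx2 : x = q
        · subst hx2
          rw [Equiv.swap_apply_right, Pi.single_eq_same, Pi.single_eq_same, Pi.single_eq_of_ne hpq,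
            Pi.single_eq_of_ne hpq.symm, add_comm]
        · rw [Equiv.swap_apply_of_ne_of_ne hx hx2]
    · rw [h.tr_e_ne hj]
  have hd : e (h.tr i p q v + v) = 0 := by rw [map_add, hb, ← map_add, addself, map_zero]
  obtain ⟨d, hdd⟩ : ∃ d, d = h.tr i p q v + v := ⟨_, rfl⟩
  rw [← hdd] at hd ⊢
  have ebv : h.tr i p q v = v + d := by rw [hdd]; linear_combination (norm := module) -addself v
  have r1 : ∀ w, h.tr i p q (h.tr i q r w) = h.tr i p r (h.tr i p q w) := by
    intro w
    change (h.L _ * h.L _) w = (h.L _ * h.L _) w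
    rw [← map_mul, ← map_mul, ← Pi.mulSingle_mul, ← Pi.mulSingle_mul]
    have : Equiv.swap p q * Equiv.swap q r = Equiv.swap p r * Equiv.swap p q := by
      have h1 := Equiv.swap_mul_swap_mul_swap (x := q) (y := r) (z := p) hrq.symm hpq.symm
      rw [Equiv.swap_comm p q]
      have h2 : Equiv.swap q p * Equiv.swap q r * Equiv.swap q p = Equiv.swap p r := by
        rw [Equiv.swap_comm q r]
        have := Equiv.mul_swap_eq_swap_mul (Equiv.swap q p) r q
        rw [this, Equiv.swap_apply_left, Equiv.swap_apply_of_ne_of_ne hrq hrp, mul_assoc, Equiv.swap_mul_self, mul_one,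
          Equiv.swap_comm]
      rw [← h2, mul_assoc, Equiv.swap_mul_self, mul_one]
    rw [this]
  have r2 : ∀ w, h.tr i p q (h.tr i p r w) = h.tr i q r (h.tr i p q w) := by
    intro w
    change (h.L _ * h.L _) w = (h.L _ * h.L _) w
    rw [← map_mul, ← map_mul, ← Pi.mulSingle_mul, ← Pi.mulSingle_mul]
    have : Equiv.swap p q * Equiv.swap p r = Equiv.swap q r * Equiv.swap p q := by
      rw [Equiv.mul_swap_eq_swap_mul (Equiv.swap p q) p r, Equiv.swap_apply_left,
        Equiv.swap_apply_of_ne_of_ne hrp hrq]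
    rw [this]
  -- the sum of the three pairs
  have hs : e (v + h.tr i q r v + h.tr i p r v) = 0 := by
    funext j x
    rw [map_add, map_add, Pi.add_apply, Pi.add_apply, Pi.add_apply, Pi.add_apply]
    by_cases hj : j = i
    · subst hj
      rw [h.tr_e, h.tr_e, hv, pr, Pi.single_eq_same]
      simp only [Pi.add_apply]
      have key : ∀ a b : Fin n, (Pi.single a 1 : Fin n → ZMod 2) b = if b = a then 1 else 0 := fun a b => by
        rw [Pi.single_apply]
      simp only [key, Pi.zero_apply]
      by_cases hx : x = p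
      · subst hx
        rw [Equiv.swap_apply_left, Equiv.swap_apply_of_ne_of_ne hpq hrp.symm]
        simp [hpq, hrp, hrq]
        decide
      · by_cases hx2 : x = q
        · subst hx2
          rw [Equiv.swap_apply_left, Equiv.swap_apply_of_ne_of_ne hpq.symm hrq.symm]
          simp [hpq.symm, hrp, hrq]
          decide
        · by_cases hx3 : x = r
          · subst hx3
            rw [Equiv.swap_apply_right, Equiv.swap_apply_right]
            simp [hpq, hpq.symm, hrp, hrq]
            decide
          · rw [Equiv.swap_apply_of_ne_of_ne hx2 hx3, Equiv.swap_apply_of_ne_of_ne hx hx3]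
            simp [hx, hx2]
    · rw [h.tr_e_ne hj, h.tr_e_ne hj, hv, pr, Pi.single_eq_of_ne hj]
      rfl
  have h1 := h.tr_R i p q hs
  rw [map_add, map_add, r1, r2, ebv, map_add, map_add] at h1
  have h2 := h.tr_R i q r hd
  have h3 := h.tr_R i p r hd
  have h4 := R.add_mem (R.add_mem h1 h2) h3
  have h5 : v + d + (h.tr i p r v + h.tr i p r d) + (h.tr i q r v + h.tr i q r d) + (v + h.tr i q r v + h.tr i p r v) +
      (h.tr i q r d + d) + (h.tr i p r d + d) = d := by
    linear_combination (norm := module) addself v + addself (h.tr i p r v) + addself (h.tr i q r v) +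
      addself (h.tr i p r d) + addself (h.tr i q r d) + addself d
  rwa [h5] at h4

/-- (c2) the pairs away from `{p, q}` -/
theorem pair_Vf (hn : 5 ≤ n) {i j : Fin k} {p q u s : Fin n} (hus : u ≠ s)
    (hj : j = i → (u ≠ p ∧ u ≠ q) ∧ (s ≠ p ∧ s ≠ q)) {w : W} (hw : e w = pr j u s) : w ∈ h.Vf i p q := by
  classical
  -- a third letter
  obtain ⟨r, hr⟩ : ∃ r : Fin n, r ∉ ({u, s, p, q} : Finset (Fin n)) := by
    by_contra hcon
    push Not at hcon
    have h1 : Fintype.card (Fin n) ≤ ({u, s, p, q} : Finset (Fin n)).card := by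
      rw [← Finset.card_univ]
      exact Finset.card_le_card fun x _ => hcon x
    rw [Fintype.card_fin] at h1
    have h2 : ({u, s, p, q} : Finset (Fin n)).card ≤ 4 := Finset.card_le_four
    omega
  simp only [Finset.mem_insert, Finset.mem_singleton, not_or] at hr
  obtain ⟨hru, hrs, hrp, hrq⟩ := hr
  obtain ⟨v, hv⟩ := h.surj (pr j r u) (pr_sum j r u)
  have key : ∀ a b : Fin n, (Pi.single a 1 : Fin n → ZMod 2) b = if b = a then 1 else 0 := fun a b => by
    rw [Pi.single_apply]
  -- `v` is fixed by `(p q)` modulo the kernel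
  have hb : e (h.tr i p q v) = e v := by
    funext j' x
    by_cases hj' : j' = i
    · subst hj'
      rw [h.tr_e, hv]
      by_cases hjj : j' = j
      · subst hjj
        obtain ⟨⟨a1, a2⟩, -⟩ := hj rfl
        rw [pr, Pi.single_eq_same]
        simp only [Pi.add_apply, key]
        by_cases hx : x = p
        · subst hx
          rw [Equiv.swap_apply_left, if_neg (Ne.symm hrq), if_neg a2.symm, if_neg (Ne.symm hrp), if_neg a1.symm]
        · by_cases hx2 : x = q
          · subst hx2
            rw [Equiv.swap_apply_right, if_neg (Ne.symm hrq), if_neg a2.symm, if_neg (Ne.symm hrp), if_neg a1.symm]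
          · rw [Equiv.swap_apply_of_ne_of_ne hx hx2]
      · rw [pr, Pi.single_eq_of_ne hjj]; rfl
    · rw [h.tr_e_ne hj']
  -- `(u s)` of the block `j` commutes with `(p q)` of the block `i`
  have hc : (Pi.mulSingle i (Equiv.swap p q) : Fin k → Equiv.Perm (Fin n)) * Pi.mulSingle j (Equiv.swap u s) =
      Pi.mulSingle j (Equiv.swap u s) * Pi.mulSingle i (Equiv.swap p q) := by
    by_cases hji : j = i
    · subst hji
      obtain ⟨⟨a1, a2⟩, a3, a4⟩ := hj rfl
      rw [← Pi.mulSingle_mul, ← Pi.mulSingle_mul, Equiv.mul_swap_eq_swap_mul (Equiv.swap p q) u s,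
        Equiv.swap_apply_of_ne_of_ne a1 a2, Equiv.swap_apply_of_ne_of_ne a3 a4]
    · funext j'
      rw [Pi.mul_apply, Pi.mul_apply]
      by_cases h1 : j' = i
      · subst h1
        rw [Pi.mulSingle_eq_of_ne (Ne.symm hji), mul_one, one_mul]
      · rw [Pi.mulSingle_eq_of_ne h1, mul_one, one_mul]
  have h1 := h.comm_Vf hc hb
  refine h.Vf_of ?_ h1
  rw [hw]
  funext j' x
  rw [map_add, Pi.add_apply, Pi.add_apply]
  by_cases hjj : j' = j
  · subst hjj
    have e1 : e (h.L (Pi.mulSingle j' (Equiv.swap u s)) v) j' x = e v j' (Equiv.swap u s x) := h.tr_e j' u s v x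
    rw [e1, hv, pr, pr, Pi.single_eq_same, Pi.single_eq_same]
    simp only [Pi.add_apply, key]
    by_cases hx : x = u
    · subst hx
      rw [Equiv.swap_apply_left, if_neg (Ne.symm hru), if_pos rfl, if_neg (Ne.symm hrs), if_neg (Ne.symm hus),
        if_neg hus]
      decide
    · by_cases hx2 : x = s
      · subst hx2
        rw [Equiv.swap_apply_right, if_neg (Ne.symm hrs), if_neg (Ne.symm hus), if_neg (Ne.symm hru), if_pos rfl,
          if_pos rfl]
        decide
      · rw [Equiv.swap_apply_of_ne_of_ne hx hx2, if_neg hx, if_neg hx2]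
        by_cases hx3 : x = r
        · rw [if_pos hx3]; decide
        · rw [if_neg hx3]; decide
  · have e1 : e (h.L (Pi.mulSingle j (Equiv.swap u s)) v) j' x = e v j' x := h.tr_e_ne hjj u s v x
    rw [e1, hv, pr, pr, Pi.single_eq_of_ne hjj, Pi.single_eq_of_ne hjj]
    rfl

/-- vectors with `e w i p = e w i q = 0` -/
theorem zero_Vf (hn : 5 ≤ n) {i : Fin k} {p q : Fin n} {w : W} (hp : e w i p = 0) (hq : e w i q = 0) :
    w ∈ h.Vf i p q := by
  classical
  obtain ⟨r, hr⟩ : ∃ r : Fin n, r ∉ ({p, q} : Finset (Fin n)) := by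
    by_contra hcon
    push Not at hcon
    have h1 : Fintype.card (Fin n) ≤ ({p, q} : Finset (Fin n)).card := by
      rw [← Finset.card_univ]
      exact Finset.card_le_card fun x _ => hcon x
    rw [Fintype.card_fin] at h1
    have h2 : ({p, q} : Finset (Fin n)).card ≤ 2 := Finset.card_le_two
    omega
  simp only [Finset.mem_insert, Finset.mem_singleton, not_or] at hr
  have key : ∀ a b : Fin n, (Pi.single a 1 : Fin n → ZMod 2) b = if b = a then 1 else 0 := fun a b => by
    rw [Pi.single_apply]
  choose v hv using fun (j : Fin k) (x : Fin n) => h.surj (pr j r x) (pr_sum j r x)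
  -- the sum
  have hsum : e w = e (∑ j, ∑ x, e w j x • v j x) := by
    rw [map_sum]
    funext j' x'
    rw [Finset.sum_apply, Finset.sum_apply]
    have e1 : ∀ j, e (∑ x, e w j x • v j x) j' x' = ∑ x, e w j x * pr j r x j' x' := by
      intro j
      rw [map_sum, Finset.sum_apply, Finset.sum_apply]
      refine Finset.sum_congr rfl fun x _ => ?_
      rcases z2 (e w j x) with h0 | h0
      · rw [h0, zero_smul, map_zero, zero_mul]; rfl
      · rw [h0, one_smul, one_mul, hv]
    simp only [e1]
    rw [Finset.sum_eq_single j']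
    · have e2 : ∀ x, e w j' x * pr j' r x j' x' =
          e w j' x * (if x' = r then 1 else 0) + if x = x' then e w j' x' else 0 := by
        intro x
        rw [pr, Pi.single_eq_same]
        simp only [Pi.add_apply, key]
        by_cases hx : x = x'
        · subst hx; simp [mul_add]
        · rw [if_neg hx, if_neg (Ne.symm hx)]; simp
      simp only [e2]
      rw [Finset.sum_add_distrib, ← Finset.sum_mul, h.even, zero_mul, zero_add, Finset.sum_ite_eq']
      simp
    · intro j _ hj
      refine Finset.sum_eq_zero fun x _ => ?_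
      rw [pr, Pi.single_eq_of_ne (Ne.symm hj), Pi.zero_apply, mul_zero]
    · intro hcon; exact absurd (Finset.mem_univ _) hcon
  refine h.Vf_of hsum.symm ?_
  refine AddSubgroup.sum_mem _ fun j _ => AddSubgroup.sum_mem _ fun x _ => ?_
  rcases z2 (e w j x) with h0 | h0
  · rw [h0, zero_smul]; exact (h.Vf i p q).zero_mem
  · rw [h0, one_smul]
    by_cases hxr : r = x
    · refine h.ker_Vf ?_
      rw [hv, ← hxr, pr]
      funext j' x'
      have e3 : (Pi.single r 1 + Pi.single r 1 : Fin n → ZMod 2) = 0 := by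
        funext z; exact CharTwo.add_self_eq_zero _
      rw [e3]
      simp
    · refine h.pair_Vf hn hxr (fun hj => ?_) (hv j x)
      subst hj
      refine ⟨⟨hr.1, hr.2⟩, ?_, ?_⟩
      · rintro rfl
        rw [hp] at h0; exact absurd h0 (by decide)
      · rintro rfl
        rw [hq] at h0; exact absurd h0 (by decide)

/-- the transposition is a transvection -/
theorem eq_Vf (hn : 5 ≤ n) {i : Fin k} {p q : Fin n} (hpq : p ≠ q) {w : W} (hw : e w i p = e w i q) :
    w ∈ h.Vf i p q := by
  classical
  rcases z2 (e w i p) with h0 | h0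
  · exact h.zero_Vf hn h0 (hw ▸ h0)
  · obtain ⟨r, hr⟩ : ∃ r : Fin n, r ∉ ({p, q} : Finset (Fin n)) := by
      by_contra hcon
      push Not at hcon
      have h1 : Fintype.card (Fin n) ≤ ({p, q} : Finset (Fin n)).card := by
        rw [← Finset.card_univ]
        exact Finset.card_le_card fun x _ => hcon x
      rw [Fintype.card_fin] at h1
      have h2 : ({p, q} : Finset (Fin n)).card ≤ 2 := Finset.card_le_two
      omega
    simp only [Finset.mem_insert, Finset.mem_singleton, not_or] at hr
    obtain ⟨v, hv⟩ := h.surj (pr i p q) (pr_sum i p q)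
    have h1 := h.pq_Vf hpq hr.1 hr.2 hv
    have ep : e (w + v) i p = 0 := by
      rw [map_add, Pi.add_apply, Pi.add_apply, h0, hv, pr, Pi.single_eq_same, Pi.add_apply, Pi.single_eq_same,
        Pi.single_eq_of_ne hpq]
      decide
    have eq : e (w + v) i q = 0 := by
      rw [map_add, Pi.add_apply, Pi.add_apply, ← hw, h0, hv, pr, Pi.single_eq_same, Pi.add_apply, Pi.single_eq_same,
        Pi.single_eq_of_ne hpq.symm]
      decide
    have h2 := (h.Vf i p q).add_mem (h.zero_Vf hn ep eq) h1
    have h3 : w + v + v = w := by linear_combination (norm := module) addself v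
    rwa [h3] at h2

theorem tr_sq (i : Fin k) (p q : Fin n) : h.tr i p q * h.tr i p q = 1 := by
  rw [tr, ← map_mul, ← Pi.mulSingle_mul, Equiv.swap_mul_self, Pi.mulSingle_one, map_one]

/-- `⟨(p q)⟩` is exact -/
theorem ex_tr [Finite W] (hn : 5 ≤ n) (i : Fin k) {p q : Fin n} (hpq : p ≠ q) :
    MExR R (zpowers (h.tr i p q)) ∧ h.tr i p q ≠ 1 := by
  classical
  obtain ⟨r, hr⟩ : ∃ r : Fin n, r ∉ ({p, q} : Finset (Fin n)) := by
    by_contra hcon
    push Not at hcon
    have h1 : Fintype.card (Fin n) ≤ ({p, q} : Finset (Fin n)).card := by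
      rw [← Finset.card_univ]
      exact Finset.card_le_card fun x _ => hcon x
    rw [Fintype.card_fin] at h1
    have h2 : ({p, q} : Finset (Fin n)).card ≤ 2 := Finset.card_le_two
    omega
  simp only [Finset.mem_insert, Finset.mem_singleton, not_or] at hr
  obtain ⟨v, hv⟩ := h.surj (pr i p r) (pr_sum i p r)
  have evp : e v i p = 1 := by
    rw [hv, pr, Pi.single_eq_same, Pi.add_apply, Pi.single_eq_same, Pi.single_eq_of_ne (Ne.symm hr.1)]
    decide
  have evq : e v i q = 0 := by
    rw [hv, pr, Pi.single_eq_same, Pi.add_apply, Pi.single_eq_of_ne hpq.symm, Pi.single_eq_of_ne (Ne.symm hr.2)]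
    decide
  have hne : h.tr i p q ≠ 1 := by
    intro h1
    have h2 := h.tr_e i p q v p
    rw [h1, Equiv.swap_apply_left, evq] at h2
    change e v i p = 0 at h2
    rw [evp] at h2
    exact absurd h2 (by decide)
  refine ⟨?_, hne⟩
  -- the functional
  let f : W →+ ZMod 2 :=
    { toFun := fun w => e w i p + e w i q
      map_zero' := by rw [map_zero]; rfl
      map_add' := by
        intro a b
        rw [map_add]
        simp only [Pi.add_apply]
        ring }
  have hf : ∀ w, f w = e w i p + e w i q := fun w => rfl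
  have hsurj : Function.Surjective f := by
    intro c
    rcases z2 c with rfl | rfl
    · exact ⟨0, map_zero f⟩
    · exact ⟨v, by rw [hf, evp, evq]; decide⟩
  have hker : ∀ w, w ∈ f.ker ↔ w ∈ cmR R (zpowers (h.tr i p q)) := by
    intro w
    rw [AddMonoidHom.mem_ker, hf]
    constructor
    · intro h1
      have h2 : e w i p = e w i q := CharTwo.add_eq_zero.1 h1
      have h3 := h.eq_Vf hn hpq h2
      rw [mem_Vf] at h3
      intro b hb
      obtain ⟨m, rfl⟩ := mem_zpowers_iff.1 hb
      rcases Int.even_or_odd' m with ⟨c, rfl | rfl⟩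
      · rw [zpow_mul]
        have : h.tr i p q ^ (2 : ℤ) = 1 := by
          rw [show (2 : ℤ) = ((2 : ℕ) : ℤ) from rfl, zpow_natCast, pow_two]; exact h.tr_sq i p q
        rw [this, one_zpow]
        change w + w ∈ R
        rw [addself]; exact R.zero_mem
      · have : h.tr i p q ^ (2 * c + 1) = h.tr i p q := by
          rw [zpow_add, zpow_mul, zpow_one]
          have : h.tr i p q ^ (2 : ℤ) = 1 := by
            rw [show (2 : ℤ) = ((2 : ℕ) : ℤ) from rfl, zpow_natCast, pow_two]; exact h.tr_sq i p q
          rw [this, one_zpow, one_mul]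
        rw [this]
        exact h3
    · intro h1
      have h2 := h1 _ (mem_zpowers _)
      have h3 := h.toEk.e_R h2
      rw [map_add] at h3
      have h4 := congrFun (congrFun h3 i) p
      rw [Pi.add_apply, Pi.add_apply, h.tr_e, Equiv.swap_apply_left] at h4
      rw [add_comm]; exact h4
  have hc2 : Nat.card (zpowers (h.tr i p q)) = 2 := by
    rw [Nat.card_zpowers]
    exact orderOf_eq_prime (by rw [pow_two]; exact h.tr_sq i p q) hne
  have h1 : Nat.card f.ker * f.ker.index = Nat.card W := f.ker.card_mul_index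
  have h2 : f.ker.index = 2 := by
    rw [AddSubgroup.index_ker, AddMonoidHom.range_eq_top.2 hsurj]
    rw [AddSubgroup.card_top]
    exact Nat.card_zmod 2
  have h3 : Nat.card f.ker = Nat.card (cmR R (zpowers (h.tr i p q))) := Nat.card_congr (Equiv.subtypeEquivRight hker)
  rw [h2, h3] at h1
  unfold MExR
  rw [hc2, ← h1, mul_comm]

end SymW

end Cfsg.Agent.Omega.FOne.ActR

end

section


/-!
# (F1), the minimal parabolic case, abstract form over `p : W → M`

`X` acts on the elementary abelian 2-groups `W` and `M`, `p : W → M` is onto and equivariant, `X` is trivial on `ker p`,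
`C_W(T) ≤ ker p`.  An exact atom `B ≤ T` of order `≥ 4`: then `T` is in at least two maximal subgroups of `X`.
-/

set_option autoImplicit false
set_option linter.unusedSectionVars false

namespace Cfsg.Agent.Omega.FOne.ActR

open Subgroup
open Cfsg.Agent.Lib.SL2Mat Cfsg.Agent.Omega.NatPair Cfsg.Agent.Omega.FFBr
open Cfsg.Agent.Omega.FOne.Tvw (addself z2 ap_inv inv_ap)
open Cfsg.Agent.ClassTwoFusion.Quad (cv mem_cv)

universe u

/-- an elementary abelian 2-group as an `𝔽₂`-space -/
@[reducible] def modOf {W : Type*} [CommGroup W] (sq : ∀ w : W, w * w = 1) : Module (ZMod 2) (Additive W) :=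
  AddCommGroup.zmodModule (n := 2) fun x => by
    rw [two_smul]
    exact congrArg Additive.ofMul (sq (Additive.toMul x))

section phi

variable {X W : Type*} [Group X] [CommGroup W] [MulDistribMulAction X W] [Module (ZMod 2) (Additive W)]

/-- `X → GL(W)` -/
def phi (X W : Type*) [Group X] [CommGroup W] [MulDistribMulAction X W] [Module (ZMod 2) (Additive W)] :
    X →* (Additive W ≃ₗ[ZMod 2] Additive W) where
  toFun x :=
    { toFun := fun w => Additive.ofMul (x • Additive.toMul w)
      map_add' := fun a b => congrArg Additive.ofMul (smul_mul' x (Additive.toMul a) (Additive.toMul b))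
      map_smul' := by
        intro c w
        rcases z2 c with rfl | rfl
        · rw [zero_smul, RingHom.id_apply, zero_smul]
          exact congrArg Additive.ofMul (smul_one x)
        · rw [one_smul]
          change _ = (1 : ZMod 2) • _
          rw [one_smul]
      invFun := fun w => Additive.ofMul (x⁻¹ • Additive.toMul w)
      left_inv := fun w => congrArg Additive.ofMul (inv_smul_smul x (Additive.toMul w))
      right_inv := fun w => congrArg Additive.ofMul (smul_inv_smul x (Additive.toMul w)) }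
  map_one' := by
    ext w
    exact congrArg Additive.ofMul (one_smul X (Additive.toMul w))
  map_mul' a b := by
    ext w
    exact congrArg Additive.ofMul (mul_smul a b (Additive.toMul w))

theorem phi_apply (x : X) (w : W) : phi X W x (Additive.ofMul w) = Additive.ofMul (x • w) := rfl

end phi

/-- The abstract situation. -/
structure Sit {X M W : Type*} [Group X] [CommGroup M] [MulDistribMulAction X M] [CommGroup W] [MulDistribMulAction X W]
    (T B : Subgroup X) (p : W →* M) : Prop where
  sq : ∀ w : W, w * w = 1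
  eqv : ∀ (x : X) (w : W), p (x • w) = x • p w
  surj : Function.Surjective p
  ker : ∀ w : W, p w = 1 → ∀ x : X, x • w = w
  faith : ∀ x : X, (∀ m : M, x • m = m) → x = 1
  core : ∀ N : Subgroup X, N.Normal → IsPGroup 2 N → N = ⊥
  two : IsPGroup 2 T
  syl : ¬ 2 ∣ T.index
  fixT : ∀ w : W, (∀ t ∈ T, t • w = w) → p w = 1
  gen : ∀ U : Subgroup M, (∀ m : M, (∀ t ∈ T, t • m = m) → ∀ x : X, x • m ∈ U) → U = ⊤
  BT : B ≤ T
  el : ∀ b ∈ B, b * b = 1
  four : 4 ≤ Nat.card B
  exact : (cv M (B : Set X)).index = Nat.card B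
  atom : ∀ C : Subgroup X, C ≤ B → C ≠ ⊥ → C ≠ B → Nat.card C < (cv M (C : Set X)).index

namespace Sit

section

variable {X M W : Type*} [Group X] [CommGroup M] [MulDistribMulAction X M] [CommGroup W] [MulDistribMulAction X W]
  [Module (ZMod 2) (Additive W)] {T B : Subgroup X} {p : W →* M}

/-- `ker p` -/
def Rk (p : W →* M) : AddSubgroup (Additive W) := Subgroup.toAddSubgroup p.ker

theorem mem_Rk {w : W} : Additive.ofMul w ∈ Rk p ↔ p w = 1 := Iff.rfl

variable (h : Sit T B p)
include h

theorem inj : Function.Injective (phi X W) := by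
  rw [injective_iff_map_eq_one]
  intro x hx
  refine h.faith x fun m => ?_
  obtain ⟨w, rfl⟩ := h.surj m
  rw [← h.eqv]
  congr 1
  have := congrArg (fun g : Additive W ≃ₗ[ZMod 2] Additive W => g (Additive.ofMul w)) hx
  exact congrArg Additive.toMul this

/-- equality of images in `M` -/
theorem p_eq {a b : W} : p a = p b ↔ Additive.ofMul a + Additive.ofMul b ∈ Rk p := by
  rw [← ofMul_mul, mem_Rk, map_mul]
  have h1 : p b * p b = 1 := by rw [← map_mul, h.sq, map_one]
  constructor
  · intro h2; rw [h2, h1]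
  · intro h2
    exact mul_right_cancel (h2.trans h1.symm)

theorem baseR : BaseR (phi X W).range (Rk p) where
  fix := by
    rintro _ ⟨x, rfl⟩ r hr
    exact congrArg Additive.ofMul (h.ker (Additive.toMul r) hr x)
  faith := by
    rintro _ ⟨x, rfl⟩ hx
    have h1 : x = 1 := h.faith x fun m => by
      obtain ⟨w, rfl⟩ := h.surj m
      rw [← h.eqv, h.p_eq]
      exact hx (Additive.ofMul w)
    rw [h1, map_one]
  core := by
    intro N hN hn h2
    have h1 := h.core (N.comap (phi X W)) ⟨fun n hnn g => by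
      rw [mem_comap, map_mul, map_mul, map_inv]
      exact hn _ ⟨g, rfl⟩ _ hnn⟩ (h2.comap_of_injective _ h.inj)
    rw [eq_bot_iff]
    intro g hg
    obtain ⟨x, rfl⟩ := hN hg
    have h3 : x ∈ N.comap (phi X W) := hg
    rw [h1, mem_bot] at h3
    rw [h3, map_one]
    exact one_mem _

/-- a functional of `M` as a functional of `W` -/
def pull {E : Type*} [AddCommGroup E] (p : W →* M) (e : M → E) (he : ∀ v w, e (v * w) = e v + e w) :
    Additive W →+ E :=
  AddMonoidHom.mk' (fun w => e (p (Additive.toMul w))) fun a b => by rw [toMul_add, map_mul, he]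

omit h in
theorem kinv_odd (g : X) {v : M} (hv : v ∈ odd X M) : g • v ∈ odd X M := by
  intro x hx
  have h1 : (g⁻¹ * x * g) • v = v := hv _ (by
    have : orderOf (g⁻¹ * x * g) = orderOf x := by
      have e1 : (MulAut.conj g⁻¹) x = g⁻¹ * x * g := by simp
      rw [← e1]
      exact MulEquiv.orderOf_eq _ x
    rw [this]; exact hx)
  have h2 := congrArg (fun z => g • z) h1
  simp only [smul_smul] at h2
  rw [smul_smul]
  have e2 : g * (g⁻¹ * x * g) = x * g := by group
  rw [e2] at h2
  exact h2

theorem ek_pull {E : Type*} [AddCommGroup E] {e : M → E} (he : ∀ v w, e (v * w) = e v + e w)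
    (hker : ∀ v, e v = 0 ↔ v ∈ odd X M) : Ek (phi X W).range (Rk p) (pull p e he) where
  base := h.baseR
  eR := by
    intro r hr
    change e (p (Additive.toMul r)) = 0
    have h1 : p (Additive.toMul r) = 1 := hr
    rw [h1, hker]
    exact (odd X M).one_mem
  kinv := by
    rintro _ ⟨x, rfl⟩ w hw
    change e (p (x • Additive.toMul w)) = 0
    change e (p (Additive.toMul w)) = 0 at hw
    rw [hker] at hw ⊢
    rw [h.eqv]
    exact kinv_odd x hw

theorem tr_of {E : Type*} [AddCommGroup E] {e : M → E} (he : ∀ v w, e (v * w) = e v + e w)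
    (hker : ∀ v, e v = 0 ↔ v ∈ odd X M) {g : X} (hg : ∀ d ∈ odd X M, g • d = d) {w : Additive W}
    (hw : pull p e he w = 0) : phi X W g w + w ∈ Rk p := by
  have h1 := hg (p (Additive.toMul w)) ((hker _).1 hw)
  rw [← h.eqv, h.p_eq] at h1
  exact h1

/-- the natural case -/
theorem natW_of {F : Type} [Field F] {k : ℕ} (n : AbsNat F T M k) :
    NatW (phi X W).range (Rk p) (T.map (phi X W)) (pull p n.e n.mul) where
  toEk := h.ek_pull n.mul n.ker
  TH := by
    rintro _ ⟨t, -, rfl⟩
    exact ⟨t, rfl⟩
  surj := by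
    intro x
    obtain ⟨v, hv⟩ := n.surj x
    obtain ⟨w, rfl⟩ := h.surj v
    exact ⟨Additive.ofMul w, hv⟩
  lift := by
    intro A
    obtain ⟨g, h1, h2⟩ := n.lift A
    refine ⟨phi X W g, ⟨g, rfl⟩, fun w i => ?_, fun w hw => h.tr_of n.mul n.ker h2 hw⟩
    have := h1 (p (Additive.toMul w)) i
    rw [← h.eqv] at this
    exact this
  norm := by
    rintro _ ⟨g, rfl⟩ _ ⟨x, rfl⟩ A hA'
    obtain ⟨B, hB⟩ := n.norm g x A (fun v i => by
      obtain ⟨w, rfl⟩ := h.surj v
      rw [← h.eqv]
      exact hA' (Additive.ofMul w) i)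
    refine ⟨B, fun w i => ?_⟩
    rw [← map_mul, ← map_inv, ← map_mul]
    have := hB (p (Additive.toMul w)) i
    rw [← h.eqv] at this
    exact this
  line := by
    rintro _ ⟨t, ht, rfl⟩
    obtain ⟨σ, hσ⟩ := n.line t ht
    refine ⟨σ, fun w i => ?_⟩
    have := hσ (p (Additive.toMul w)) i
    rw [← h.eqv] at this
    exact this
  unip := by
    intro b'
    obtain ⟨t, ht, h1, h2⟩ := n.unip b'
    refine ⟨phi X W t, ⟨t, ht, rfl⟩, fun w i => ?_, fun w hw => h.tr_of n.mul n.ker h2 hw⟩
    have := h1 (p (Additive.toMul w)) i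
    rw [← h.eqv] at this
    exact this

/-- the symmetric case -/
theorem symW_of {k m : ℕ} (n : AbsSym T M k m) : SymW (phi X W).range (Rk p) (pull p n.e n.mul) where
  toEk := h.ek_pull n.mul n.ker
  even := fun w i => n.even (p (Additive.toMul w)) i
  surj := by
    intro z hz
    obtain ⟨v, hv⟩ := n.surj z hz
    obtain ⟨w, rfl⟩ := h.surj v
    exact ⟨Additive.ofMul w, hv⟩
  lift := by
    intro τ
    obtain ⟨g, h1, h2⟩ := n.lift τ
    refine ⟨phi X W g, ⟨g, rfl⟩, fun w i x => ?_, fun w hw => h.tr_of n.mul n.ker h2 hw⟩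
    have := h1 (p (Additive.toMul w)) i x
    rw [← h.eqv] at this
    exact this

/-- exactness -/
theorem index_cv [Finite W] {C : Subgroup X} (hC : MExR (Rk p) (C.map (phi X W))) :
    (cv M (C : Set X)).index = Nat.card C := by
  classical
  have h1 := Subgroup.index_comap_of_surjective (cv M (C : Set X)) h.surj
  rw [← h1]
  have h2 : Nat.card ((cv M (C : Set X)).comap p) = Nat.card (cmR (Rk p) (C.map (phi X W))) := by
    refine Nat.card_congr (Equiv.subtypeEquiv Additive.ofMul fun w => ?_)
    rw [mem_comap, mem_cv]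
    constructor
    · rintro h3 _ ⟨b, hb, rfl⟩
      have h4 := h3 b hb
      rw [← h.eqv, h.p_eq] at h4
      exact h4
    · intro h3 a ha
      rw [← h.eqv, h.p_eq]
      exact h3 _ ⟨a, ha, rfl⟩
  have h3 : Nat.card ((cv M (C : Set X)).comap p) * ((cv M (C : Set X)).comap p).index = Nat.card W :=
    ((cv M (C : Set X)).comap p).card_mul_index
  rw [h2] at h3
  unfold MExR at hC
  have hpos : 0 < Nat.card (cmR (Rk p) (C.map (phi X W))) := by
    have : Finite (Additive W) := inferInstanceAs (Finite W)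
    have : Nonempty (cmR (Rk p) (C.map (phi X W))) := ⟨⟨0, fun b _ => by
      rw [map_zero, add_zero]; exact (Rk p).zero_mem⟩⟩
    exact Nat.card_pos
  have h4 : Nat.card (C.map (phi X W)) = Nat.card C :=
    (Nat.card_congr (C.equivMapOfInjective _ h.inj).toEquiv).symm
  have h5 : Nat.card (Additive W) = Nat.card W := rfl
  rw [h5, ← h3, h4, mul_comm] at hC
  exact (Nat.eq_of_mul_eq_mul_left hpos hC).symm

theorem Bne : B ≠ ⊥ := by
  intro hb
  have := h.four
  rw [hb, Subgroup.card_bot] at this
  omega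

end

section

variable {X M : Type u} {W : Type*} [Group X] [Finite X] [CommGroup M] [Finite M] [MulDistribMulAction X M] [CommGroup W]
  [Finite W] [MulDistribMulAction X W] {T B : Subgroup X} {p : W →* M}

/-- **nmax**, from the FF theorem -/
theorem nmax_of (hFF : AStmt.{u}) (h : Sit T B p) :
    ¬ ∃ N : Subgroup X, N ≠ ⊤ ∧ ∀ R : Subgroup X, T ≤ R → R ≠ ⊤ → R ≤ N := by
  classical
  rintro ⟨N, hN, hmax⟩
  let _ := modOf h.sq
  have hXne : ¬ ∀ x : X, x = 1 := fun hx => h.Bne (by
    rw [eq_bot_iff]; exact fun b _ => mem_bot.2 (hx b))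
  have hTne : T ≠ ⊤ := by
    intro hT
    have h1 := h.core T (by rw [hT]; infer_instance) h.two
    exact h.Bne (by rw [eq_bot_iff, ← h1]; exact h.BT)
  have hTN : T ≤ N := hmax T le_rfl hTne
  let S : Sylow 2 X := h.two.toSylow h.syl
  have abs : Abs X M S N :=
    { comm := fun v w => mul_comm v w
      sq := by
        intro v
        obtain ⟨w, rfl⟩ := h.surj v
        rw [← map_mul, h.sq, map_one]
      faith := h.faith
      core := h.core
      TM := hTN
      Mne := hN
      max := by
        intro K hK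
        by_cases hKt : K = ⊤
        · exact Or.inr hKt
        · exact Or.inl (hmax K hK hKt)
      gen := fun U hU => h.gen U fun m hm x => hU m hm x
      nfix := by
        by_contra hcon
        push Not at hcon
        apply hXne
        intro x
        refine h.faith x fun m => ?_
        let U : Subgroup M :=
          { carrier := {m | ∀ x : X, x • m = m}
            one_mem' := fun x => smul_one x
            mul_mem' := fun {a b} ha hb x => by rw [smul_mul', ha x, hb x]
            inv_mem' := fun {a} ha x => by rw [smul_inv', ha x] }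
        have hU := h.gen U fun m hm x z => by
          rw [hcon m hm x, hcon m hm z]
        have h1 : m ∈ U := by rw [hU]; exact mem_top _
        exact h1 x }
  have hoff : AOff M B :=
    { comm := by
        intro a ha b hb
        have h1 := h.el _ (B.mul_mem ha hb)
        have h2 : (a * b)⁻¹ = a * b := inv_eq_of_mul_eq_one_left h1
        rw [← h2, mul_inv_rev, inv_eq_of_mul_eq_one_left (h.el a ha), inv_eq_of_mul_eq_one_left (h.el b hb)]
      sq := h.el
      ne := h.Bne
      le := h.exact.le }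
  obtain ⟨-, hC⟩ := hFF X M S N abs ⟨_, hoff⟩
  have hS : (S : Subgroup X) = T := rfl
  rw [hS] at hC
  have hfinW : Finite (Additive W) := inferInstanceAs (Finite W)
  rcases hC with ⟨F, iF, fF, cF, k, hk, ⟨n⟩⟩ | ⟨k, m, hk, hm, ⟨n⟩⟩
  · have h1 := h.natW_of n
    have htwo : IsPGroup 2 (T.map (phi X W)) := h.two.map _
    have hsyl : ¬ 2 ∣ (T.map (phi X W)).relIndex (phi X W).range := by
      rw [MonoidHom.range_eq_map, Subgroup.relIndex_map_map_of_injective _ _ h.inj, relIndex_top_right]
      exact h.syl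
    have hfix : ∀ w : Additive W, (∀ t ∈ T.map (phi X W), t w = w) → w ∈ Rk p := by
      intro w hw
      exact h.fixT (Additive.toMul w) fun t ht => congrArg Additive.toMul (hw _ ⟨t, ht, rfl⟩)
    have hgen : ∀ U : Submodule (ZMod 2) (Additive W), (∀ r ∈ Rk p, r ∈ U) →
        (∀ w, (∀ t ∈ T.map (phi X W), t w + w ∈ Rk p) → ∀ x ∈ (phi X W).range, x w ∈ U) → U = ⊤ := by
      intro U hU1 hU2
      let U' : Subgroup M := (AddSubgroup.toSubgroup' U.toAddSubgroup).map p
      have h2 := h.gen U' fun m hm x => by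
        obtain ⟨w, rfl⟩ := h.surj m
        refine ⟨x • w, ?_, h.eqv x w⟩
        exact hU2 (Additive.ofMul w) (by
          rintro _ ⟨t, ht, rfl⟩
          have h3 := hm t ht
          rw [← h.eqv, h.p_eq] at h3
          exact h3) _ ⟨x, rfl⟩
      rw [eq_top_iff]
      intro w _
      have h3 : p (Additive.toMul w) ∈ U' := by rw [h2]; exact mem_top _
      obtain ⟨w', hw', hp⟩ := h3
      have h4 : Additive.ofMul w' + w ∈ Rk p := h.p_eq.1 hp
      have h5 : Additive.ofMul w' ∈ U := hw'
      have h6 := U.add_mem h5 (hU1 _ h4)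
      have h7 : Additive.ofMul w' + (Additive.ofMul w' + w) = w := by
        rw [← add_assoc, addself, zero_add]
      rwa [h7] at h6
    by_cases hν : ∃ ν : F, ν ≠ 0 ∧ ν ≠ 1
    · let _ := Fintype.ofFinite F
      exact h1.false_big hν hk htwo hsyl hfix hgen
    · push Not at hν
      exact h1.false_two (fun x => by
        by_cases hx : x = 0
        · exact Or.inl hx
        · exact Or.inr (hν x hx)) hk htwo hfix
  · have h1 := h.symW_of n
    obtain ⟨h2, h3⟩ := n.off B h.BT hoff
    obtain ⟨a, ha, ha1⟩ : ∃ a ∈ B, a ≠ 1 := by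
      by_contra hcon
      push Not at hcon
      exact h.Bne (by rw [eq_bot_iff]; exact fun x hx => mem_bot.2 (hcon x hx))
    obtain ⟨τ, hτ, hτ2⟩ := h3 a ha
    obtain ⟨i, x, hx⟩ : ∃ i x, τ i x ≠ x := by
      by_contra hcon
      push Not at hcon
      apply ha1
      apply h.inj
      rw [map_one]
      refine h1.toEk.uniq ⟨a, rfl⟩ (fun w => ?_) fun w hw => h.tr_of n.mul n.ker (h2 a ha) hw
      funext i x
      have h5 := hτ (p (Additive.toMul w)) i x
      rw [← h.eqv, hcon i x] at h5
      exact h5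
    obtain ⟨-, b, hb, hb2⟩ := hτ2 i x hx
    have hbe : phi X W b = h1.tr i x (τ i x) := by
      refine h1.eq_L ⟨b, rfl⟩ (fun w j z => ?_) fun w hw => h.tr_of n.mul n.ker (h2 b hb) hw
      have h5 := hb2 (p (Additive.toMul w)) j z
      rw [← h.eqv] at h5
      exact h5
    have hn : 5 ≤ 2 ^ m + 1 := by
      have : 2 ^ 2 ≤ 2 ^ m := Nat.pow_le_pow_right (by norm_num) hm
      omega
    obtain ⟨h6, h7⟩ := h1.ex_tr hn i (Ne.symm hx)
    rw [← hbe, ← MonoidHom.map_zpowers] at h6
    rw [← hbe] at h7
    have h8 : zpowers b ≤ B := zpowers_le.2 hb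
    have h9 := h.index_cv h6
    have h10 : Nat.card (zpowers b) ≤ 2 := by
      rw [Nat.card_zpowers]
      refine Nat.le_of_dvd (by norm_num) (orderOf_dvd_of_pow_eq_one ?_)
      rw [pow_two]; exact h.el _ hb
    have h11 := h.atom _ h8 (by
      intro h12
      apply h7
      rw [zpowers_eq_bot.1 h12, map_one]) (by
        intro h12
        have := h.four
        rw [← h12] at this
        omega)
    rw [h9] at h11
    exact lt_irrefl _ h11

end

end Sit

end Cfsg.Agent.Omega.FOne.ActR

end
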